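import Cfsg.Agent.Lib.TIRoot.JordanField

/-!
Eigencomponents with respect to a maximal field in a spread set.
-/

set_option autoImplicit false

namespace Cfsg.Agent.Lib.TIRoot

open Function Polynomial Finset

universe u

variable {X : Type u} [AddCommGroup X]

local notation "R" => AddMonoid.End X

/-- A maximal field inside the spread set, with a generator. -/
structure MaxField (S : AddSubgroup (AddMonoid.End X)) (K : Type u) [Field K] where
  /-- The embedding. -/
  ι : K →+* AddMonoid.End X
  mem : ∀ c, ι c ∈ S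
  maximal : ∀ s ∈ S, (∀ c, s * ι c = ι c * s) → ∃ c, ι c = s
  /-- The generator. -/
  a : K
  gen : ∀ c : K, c ≠ 0 → ∃ k : ℕ, a ^ k = c

section Decomp

variable {K : Type u} [Field K] [Fintype K] [DecidableEq K] (ι : K →+* AddMonoid.End X) (a : K)

/-- Coefficients of the Lagrange polynomial. -/
noncomputable def lag (t : K) (j : ℕ) : K := (Lagrange.basis Finset.univ id t).coeff j

/-- The component of `r` for the eigenvalue `t`. -/
noncomputable def comp (t : K) : R →+ R :=
  ∑ j ∈ Finset.range (Fintype.card K),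
    (AddMonoidHom.mulLeft (ι (lag t j))).comp (AddMonoidHom.mulRight (ι a ^ j))

theorem comp_apply (t : K) (r : R) :
    comp ι a t r = ∑ j ∈ Finset.range (Fintype.card K), ι (lag t j) * (r * ι a ^ j) := by
  simp [comp]

theorem lag_natDegree_lt (t : K) : (Lagrange.basis Finset.univ id t).natDegree < Fintype.card K := by
  rw [Lagrange.natDegree_basis Function.injective_id.injOn (Finset.mem_univ t), Finset.card_univ]
  exact Nat.sub_lt Fintype.card_pos one_pos

theorem lag_sum (t x : K) : ∑ j ∈ Finset.range (Fintype.card K), lag t j * x ^ j = if x = t then 1 else 0 := by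
  have h := Polynomial.eval_eq_sum_range' (lag_natDegree_lt t) x
  change (Lagrange.basis Finset.univ id t).eval x = ∑ j ∈ Finset.range (Fintype.card K), lag t j * x ^ j at h
  rw [← h]
  split_ifs with hx
  · subst hx
    exact Lagrange.eval_basis_self (v := id) Function.injective_id.injOn (Finset.mem_univ x)
  · exact Lagrange.eval_basis_of_ne (v := id) (i := t) (j := x) (Ne.symm hx) (Finset.mem_univ x)

theorem sum_comp (r : R) : ∑ t : K, comp ι a t r = r := by
  simp only [comp_apply]
  rw [Finset.sum_comm]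
  have h1 : ∀ j, ∑ t : K, lag t j = if j = 0 then 1 else 0 := by
    intro j
    have := congrArg (fun p => Polynomial.coeff p j)
      (Lagrange.sum_basis (s := (Finset.univ : Finset K)) (v := id) Function.injective_id.injOn Finset.univ_nonempty)
    simp only [Polynomial.finset_sum_coeff, Polynomial.coeff_one] at this
    exact this
  rw [Finset.sum_eq_single 0]
  · rw [← Finset.sum_mul, ← map_sum, h1, if_pos rfl, map_one, one_mul, pow_zero, mul_one]
  · intro j _ hj
    rw [← Finset.sum_mul, ← map_sum, h1, if_neg hj, map_zero, zero_mul]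
  · intro h
    exact absurd (Finset.mem_range.mpr Fintype.card_pos) h

theorem comp_mul (t : K) (r : R) : comp ι a t r * ι a = ι t * comp ι a t r := by
  letI : Module K R := Module.compHom R ι
  let ρ : Module.End K R :=
    { toFun := fun r => r * ι a
      map_add' := fun x y => add_mul x y (ι a)
      map_smul' := fun c x => mul_assoc (ι c) x (ι a) }
  have hρ : ∀ (j : ℕ) (r : R), (ρ ^ j) r = r * ι a ^ j := by
    intro j
    induction j with
    | zero => intro r; rw [pow_zero, pow_zero, mul_one]; rfl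
    | succ j ih =>
      intro r
      rw [pow_succ, pow_succ']
      show (ρ ^ j) (r * ι a) = _
      rw [ih, mul_assoc]
  have hcomp : comp ι a t r = (aeval ρ (Lagrange.basis Finset.univ id t)) r := by
    rw [Polynomial.aeval_eq_sum_range' (lag_natDegree_lt t), comp_apply, LinearMap.sum_apply]
    exact Finset.sum_congr rfl fun j _ => by rw [LinearMap.smul_apply, hρ]; rfl
  have hzero : aeval ρ (Lagrange.nodal (Finset.univ : Finset K) id) = 0 := by
    have : Lagrange.nodal (Finset.univ : Finset K) id = Polynomial.X ^ Fintype.card K - Polynomial.X := by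
      rw [Lagrange.nodal_eq]
      have hroots := FiniteField.roots_X_pow_card_sub_X K
      have hm : (Polynomial.X ^ Fintype.card K - Polynomial.X : K[X]).Monic :=
        Polynomial.monic_X_pow_sub (by rw [Polynomial.degree_X]; exact_mod_cast Fintype.one_lt_card)
      have hd := Polynomial.prod_multiset_X_sub_C_of_monic_of_roots_card_eq hm (by
        rw [hroots, FiniteField.X_pow_card_sub_X_natDegree_eq K Fintype.one_lt_card]
        rfl)
      rw [hroots] at hd
      exact hd
    rw [this, map_sub, map_pow, aeval_X]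
    apply LinearMap.ext
    intro r
    rw [LinearMap.sub_apply, LinearMap.zero_apply, hρ, ← map_pow, FiniteField.pow_card, sub_eq_zero]
    rfl
  have hfac : ∃ w : K, (Polynomial.X - C t) * Lagrange.basis Finset.univ id t =
      C w * Lagrange.nodal (Finset.univ : Finset K) id := by
    refine ⟨∏ j ∈ Finset.univ.erase t, (t - j)⁻¹, ?_⟩
    rw [Lagrange.nodal_eq_mul_nodal_erase (Finset.mem_univ t), Lagrange.nodal_eq, Lagrange.basis, map_prod]
    simp only [Lagrange.basisDivisor, id, Finset.prod_mul_distrib]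
    ring
  obtain ⟨w, hw⟩ := hfac
  have h := congrArg (fun p => (aeval ρ p) r) hw
  simp only [map_mul, map_sub, aeval_X, aeval_C, hzero, mul_zero, LinearMap.zero_apply, Module.End.mul_apply,
    LinearMap.sub_apply, Module.algebraMap_end_apply] at h
  rw [← hcomp] at h
  exact sub_eq_zero.mp h

theorem comp_eig {τ : K ≃+* K} {y : R} (hy : Eig ι τ y) (t : K) :
    comp ι a t y = ι (if τ a = t then 1 else 0) * y := by
  rw [comp_apply, ← lag_sum t (τ a), map_sum, Finset.sum_mul]
  refine Finset.sum_congr rfl fun j _ => ?_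
  rw [← map_pow ι a, hy (a ^ j), ← mul_assoc, ← map_mul, map_pow]

/-- The symmetrised projection. -/
noncomputable def proj (σ : K ≃+* K) (g : K) : R →+ R :=
  ∑ j ∈ Finset.range (Fintype.card K),
    ((AddMonoidHom.mulLeft (ι (g * lag (σ a) j))).comp (AddMonoidHom.mulRight (ι (a ^ j))) +
      (AddMonoidHom.mulLeft (ι (a ^ j))).comp (AddMonoidHom.mulRight (ι (g * lag (σ a) j))))

theorem proj_apply (σ : K ≃+* K) (g : K) (r : R) :
    proj ι a σ g r = ∑ j ∈ Finset.range (Fintype.card K),
      (ι (g * lag (σ a) j) * r * ι (a ^ j) + ι (a ^ j) * r * ι (g * lag (σ a) j)) := by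
  simp [proj, mul_assoc]

theorem proj_eig (σ : K ≃+* K) (g : K) {τ : K ≃+* K} {y : R} (hy : Eig ι τ y) :
    proj ι a σ g y = ι (if τ a = σ a then g else 0) * y + ι (if τ (σ a) = a then τ g else 0) * y := by
  have e1 : (if τ a = σ a then g else 0) = ∑ j ∈ Finset.range (Fintype.card K), g * lag (σ a) j * τ a ^ j := by
    simp only [mul_assoc]
    rw [← Finset.mul_sum, lag_sum]
    split_ifs <;> simp
  have e2 : (if τ (σ a) = a then τ g else 0) =
      ∑ j ∈ Finset.range (Fintype.card K), a ^ j * τ (g * lag (σ a) j) := by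
    have h3 : ∑ j ∈ Finset.range (Fintype.card K), a ^ j * τ (g * lag (σ a) j) =
        τ g * τ (∑ j ∈ Finset.range (Fintype.card K), lag (σ a) j * τ.symm a ^ j) := by
      rw [map_sum, Finset.mul_sum]
      refine Finset.sum_congr rfl fun j _ => ?_
      rw [map_mul, map_mul, map_pow, RingEquiv.apply_symm_apply]
      ring
    rw [h3, lag_sum]
    by_cases h : τ (σ a) = a
    · rw [if_pos h, if_pos ((RingEquiv.symm_apply_eq τ).mpr h.symm), map_one, mul_one]
    · rw [if_neg h, if_neg fun e => h ((RingEquiv.symm_apply_eq τ).mp e).symm, map_zero, mul_zero]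
  rw [proj_apply, e1, e2, map_sum, map_sum, Finset.sum_mul, Finset.sum_mul, ← Finset.sum_add_distrib]
  refine Finset.sum_congr rfl fun j _ => ?_
  congr 1
  · rw [mul_assoc, hy, ← mul_assoc, ← map_mul, map_pow]
  · rw [mul_assoc, hy, ← mul_assoc, ← map_mul]

end Decomp

namespace MaxField

variable {S : AddSubgroup (AddMonoid.End X)} {K : Type u} [Field K] [Fintype K] [DecidableEq K]

theorem proj_mem (h : Spread S) (F : MaxField S K) (σ : K ≃+* K) (g : K) {r : R} (hr : r ∈ S) :
    proj F.ι F.a σ g r ∈ S := by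
  rw [proj_apply]
  exact S.sum_mem fun j _ => h.polar (F.mem _) (F.mem _) hr

/-- An element of the spread set outside the field gives a pair of eigenvectors. -/
theorem exists_pair (h : Spread S) (F : MaxField S K) {b : R} (hb : b ∈ S) (hbK : ∀ c, F.ι c ≠ b) :
    ∃ (σ : K ≃+* K) (x x' : R), σ ≠ 1 ∧ x ≠ 0 ∧ Eig F.ι σ x ∧ Eig F.ι σ⁻¹ x' ∧
      ∀ g, F.ι g * x + F.ι (σ⁻¹ g) * x' ∈ S := by
  have hcomp : ∀ t, ∃ τ : K ≃+* K, comp F.ι F.a t b ≠ 0 → τ F.a = t ∧ Eig F.ι τ (comp F.ι F.a t b) := by
    intro t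
    by_cases h0 : comp F.ι F.a t b = 0
    · exact ⟨1, fun hne => absurd h0 hne⟩
    · obtain ⟨τ, hτ⟩ := exists_eig F.gen h0 (comp_mul F.ι F.a t b)
      exact ⟨τ, fun _ => hτ⟩
  choose τ hτ using hcomp
  obtain ⟨t, hta, htne⟩ : ∃ t, t ≠ F.a ∧ comp F.ι F.a t b ≠ 0 := by
    by_contra hcon
    push Not at hcon
    have he : b = comp F.ι F.a F.a b := by
      conv_lhs => rw [← sum_comp F.ι F.a b]
      exact Finset.sum_eq_single F.a (fun t _ ht => hcon t ht) (fun hh => absurd (Finset.mem_univ _) hh)
    have hb0 : b ≠ 0 := fun e => hbK 0 (by rw [map_zero, e])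
    obtain ⟨hτa, heig⟩ := hτ F.a (he ▸ hb0)
    have h1 : τ F.a = 1 := aut_ext F.gen hτa
    rw [← he, h1] at heig
    obtain ⟨c, hc⟩ := F.maximal b hb fun c => heig c
    exact hbK c hc
  obtain ⟨hσa, hx⟩ := hτ t htne
  set σ := τ t with hσ
  have hx' : Eig F.ι σ⁻¹ (comp F.ι F.a (σ⁻¹ F.a) b) := by
    by_cases h0 : comp F.ι F.a (σ⁻¹ F.a) b = 0
    · intro c; rw [h0, zero_mul, mul_zero]
    · obtain ⟨h1, h2⟩ := hτ _ h0
      rwa [aut_ext F.gen h1] at h2
  refine ⟨σ, comp F.ι F.a t b, comp F.ι F.a (σ⁻¹ F.a) b, ?_, htne, hx, hx', fun g => ?_⟩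
  · intro e
    rw [e, RingAut.one_apply] at hσa
    exact hta hσa.symm
  · have e : proj F.ι F.a σ g b =
        F.ι g * comp F.ι F.a t b + F.ι (σ⁻¹ g) * comp F.ι F.a (σ⁻¹ F.a) b := by
      conv_lhs => rw [← sum_comp F.ι F.a b, map_sum]
      have hterm : ∀ μ, proj F.ι F.a σ g (comp F.ι F.a μ b) =
          (if μ = t then F.ι g * comp F.ι F.a t b else 0) +
          (if μ = σ⁻¹ F.a then F.ι (σ⁻¹ g) * comp F.ι F.a (σ⁻¹ F.a) b else 0) := by
        intro μ
        by_cases h0 : comp F.ι F.a μ b = 0
        · rw [h0, map_zero]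
          split_ifs with h1 h2 h2
          · rw [← h1, ← h2, h0, mul_zero, mul_zero, add_zero]
          · rw [← h1, h0, mul_zero, zero_add]
          · rw [← h2, h0, mul_zero, add_zero]
          · rw [add_zero]
        · obtain ⟨h1, h2⟩ := hτ μ h0
          rw [proj_eig F.ι F.a σ g h2, h1, hσa]
          congr 1
          · by_cases hm : μ = t
            · rw [if_pos hm, if_pos hm, hm]
            · rw [if_neg hm, if_neg hm, map_zero, zero_mul]
          · by_cases hm : μ = σ⁻¹ F.a
            · have ht' : τ μ = σ⁻¹ := aut_ext F.gen (h1.trans hm)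
              have hcond : τ μ t = F.a := by
                rw [ht', ← hσa]
                exact RingEquiv.symm_apply_apply σ F.a
              rw [if_pos hcond, if_pos hm, ht', hm]
            · have hcond : τ μ t ≠ F.a := by
                intro hc
                apply hm
                have h3 : τ μ * σ = 1 := aut_ext F.gen (by
                  show τ μ (σ F.a) = F.a
                  rw [hσa, hc])
                rw [← h1, eq_inv_of_mul_eq_one_left h3]
              rw [if_neg hcond, if_neg hm, map_zero, zero_mul]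
      simp only [hterm, Finset.sum_add_distrib, Finset.sum_ite_eq', Finset.mem_univ, if_true]
    rw [← e]
    exact F.proj_mem h σ g hb

omit [DecidableEq K] in
theorem orderOf_odd [Finite X] (h : Spread S) (F : MaxField S K) {σ : K ≃+* K} {x x' : R} (hσ : σ ≠ 1) (hx0 : x ≠ 0)
    (hx : Eig F.ι σ x) (hx' : Eig F.ι σ⁻¹ x') (hmem : ∀ g, F.ι g * x + F.ι (σ⁻¹ g) * x' ∈ S) :
    Odd (orderOf σ) := by
  by_contra hodd
  obtain ⟨c, hc2, hc⟩ := exists_fixed_sq σ (Nat.not_odd_iff_even.mp hodd)
  obtain ⟨g, hg⟩ : ∃ g, F.ι g * x + F.ι (σ⁻¹ g) * x' ≠ 0 := by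
    by_contra hcon
    push Not at hcon
    have e1 : x' = x := by
      have := hcon 1
      rw [map_one, map_one, map_one, one_mul, one_mul] at this
      rw [eq_neg_of_add_eq_zero_right this, h.neg_eq]
    apply hσ
    ext g
    have h0 := hcon (σ g)
    have e : σ⁻¹ (σ g) = g := RingEquiv.symm_apply_apply σ g
    rw [e1, e] at h0
    have h1 : F.ι (σ g) * x = F.ι g * x := by rw [eq_neg_of_add_eq_zero_left h0, h.neg_eq]
    exact eq_of_ι_mul hx0 h1
  set b := F.ι g * x + F.ι (σ⁻¹ g) * x' with hb
  have hσc : σ⁻¹ c = σ c := by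
    have : σ (σ c) = c := hc2
    conv_lhs => rw [← this]
    exact RingEquiv.symm_apply_apply σ (σ c)
  have hbc : ∀ d, σ⁻¹ d = σ d → b * F.ι d = F.ι (σ d) * b := by
    intro d hd
    rw [hb, add_mul, mul_add, hx.smul g d, hx'.smul (σ⁻¹ g) d, hd]
  have hcomm : Commute (b * b) (F.ι c) := by
    show b * b * F.ι c = F.ι c * (b * b)
    have hσσ : σ (σ c) = c := hc2
    rw [mul_assoc, hbc c hσc, ← mul_assoc, hbc (σ c) (by rw [hσσ]; exact RingEquiv.symm_apply_apply σ c), hσσ,
      mul_assoc]
  have h1 : F.ι c * b = F.ι (σ c) * b := ((h.commute_of_commute_sq (hmem g) hcomm).eq.symm).trans (hbc c hσc)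
  exact hc (eq_of_ι_mul hg h1.symm)

end MaxField

end Cfsg.Agent.Lib.TIRoot
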