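import Mathlib

/-!
An additive group of endomorphisms of a finite elementary abelian 2-group which contains the identity, whose
nonzero elements are invertible and which is closed under inversion, consists of pairwise commuting elements.
-/

set_option autoImplicit false

namespace Cfsg.Agent.Lib.TIRoot

open Function Polynomial Finset

universe u

variable {X : Type u} [AddCommGroup X]

local notation "R" => AddMonoid.End X

/-- The hypotheses on a spread set. -/
structure Spread (S : AddSubgroup (AddMonoid.End X)) : Prop where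
  two : ∀ x : X, x + x = 0
  one : (1 : AddMonoid.End X) ∈ S
  inv : ∀ a ∈ S, a ≠ 0 → ∃ b ∈ S, a * b = 1 ∧ b * a = 1

namespace Spread

variable {S : AddSubgroup (AddMonoid.End X)}

theorem add_self (h : Spread S) (a : R) : a + a = 0 := AddMonoidHom.ext fun x => h.two (a x)

theorem neg_eq (h : Spread S) (a : R) : -a = a := (eq_neg_of_add_eq_zero_left (h.add_self a)).symm

theorem sub_eq (h : Spread S) (a b : R) : a - b = a + b := by rw [sub_eq_add_neg, h.neg_eq]

theorem apply_eq_zero (h : Spread S) {a : R} (ha : a ∈ S) (h0 : a ≠ 0) {x : X} (hx : a x = 0) : x = 0 := by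
  obtain ⟨b, -, -, hba⟩ := h.inv a ha h0
  have : (b * a) x = b (a x) := rfl
  rw [hba, hx, map_zero] at this
  exact this

/-- Hua's identity. -/
theorem jordan (h : Spread S) {a b : R} (ha : a ∈ S) (hb : b ∈ S) : a * b * a ∈ S := by
  by_cases ha0 : a = 0
  · rw [ha0, zero_mul, zero_mul]; exact S.zero_mem
  by_cases hb0 : b = 0
  · rw [hb0, mul_zero, zero_mul]; exact S.zero_mem
  obtain ⟨a', ha', haa', ha'a⟩ := h.inv a ha ha0
  obtain ⟨b', hb', hbb', hb'b⟩ := h.inv b hb hb0
  by_cases hc0 : b' + a = 0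
  · have : b' = a := by rw [eq_neg_of_add_eq_zero_left hc0, h.neg_eq]
    rw [← this, hb'b, one_mul]
    exact hb'
  obtain ⟨c', hc', hcc', hc'c⟩ := h.inv _ (S.add_mem hb' ha) hc0
  have key : (a' + c') * (a + a * b * a) = 1 := by
    have e1 : (b' + a) * b * a = a + a * b * a := by rw [add_mul, add_mul, hb'b, one_mul]
    rw [add_mul, mul_add, ← mul_assoc a', ← mul_assoc a', ha'a, one_mul, ← e1, ← mul_assoc, ← mul_assoc,
      hc'c, one_mul, add_assoc, h.add_self, add_zero]
  have hd0 : a' + c' ≠ 0 := fun e => by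
    rw [e, zero_mul] at key
    exact ha0 (by rw [← mul_one a, ← key, mul_zero])
  obtain ⟨d, hd, -, hdd⟩ := h.inv _ (S.add_mem ha' hc') hd0
  have e : d = a + a * b * a := by
    calc d = d * ((a' + c') * (a + a * b * a)) := by rw [key, mul_one]
      _ = a + a * b * a := by rw [← mul_assoc, hdd, one_mul]
  have e2 : a * b * a = a + d := by rw [e, ← add_assoc, h.add_self, zero_add]
  rw [e2]
  exact S.add_mem ha hd

theorem polar (h : Spread S) {a c r : R} (ha : a ∈ S) (hc : c ∈ S) (hr : r ∈ S) :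
    a * r * c + c * r * a ∈ S := by
  have e : a * r * c + c * r * a = (a + c) * r * (a + c) - a * r * a - c * r * c := by noncomm_ring
  rw [e]
  exact S.sub_mem (S.sub_mem (h.jordan (S.add_mem ha hc) hr) (h.jordan ha hr)) (h.jordan hc hr)

theorem pow_mem (h : Spread S) {a : R} (ha : a ∈ S) : ∀ k : ℕ, a ^ k ∈ S
  | 0 => by rw [pow_zero]; exact h.one
  | 1 => by rw [pow_one]; exact ha
  | k + 2 => by
    have := h.jordan ha (h.pow_mem ha k)
    rwa [← pow_succ', ← pow_succ] at this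

theorem exists_sq_pow [Finite X] (h : Spread S) {a : R} (ha : a ∈ S) : ∃ k : ℕ, (a * a) ^ k = a := by
  haveI : Finite R := Finite.of_injective (fun f : R => (f : X → X)) DFunLike.coe_injective
  by_cases ha0 : a = 0
  · exact ⟨1, by rw [ha0, pow_one, mul_zero]⟩
  obtain ⟨b, -, hab, hba⟩ := h.inv a ha ha0
  let u : Rˣ := ⟨a, b, hab, hba⟩
  have hu : a ^ orderOf u = 1 := by
    have := congrArg Units.val (pow_orderOf_eq_one u)
    rwa [Units.val_pow_eq_pow_val, Units.val_one] at this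
  rcases Nat.even_or_odd (orderOf u) with ⟨n, hn⟩ | ⟨n, hn⟩
  · exfalso
    have hn0 : n ≠ 0 := fun e => (orderOf_pos u).ne' (by rw [hn, e])
    have hsq : (a ^ n + 1) * (a ^ n + 1) = 0 := by
      rw [add_mul, mul_add, ← pow_add, ← hn, hu]
      noncomm_ring
      rw [two_smul, two_smul, h.add_self, h.add_self, add_zero]
    have hz : a ^ n + 1 = 0 := by
      by_contra hne
      obtain ⟨c, -, -, hc⟩ := h.inv _ (S.add_mem (h.pow_mem ha n) h.one) hne
      apply hne
      calc a ^ n + 1 = c * ((a ^ n + 1) * (a ^ n + 1)) := by rw [← mul_assoc, hc, one_mul]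
        _ = 0 := by rw [hsq, mul_zero]
    have hn1 : a ^ n = 1 := by rw [eq_neg_of_add_eq_zero_left hz, h.neg_eq]
    have : u ^ n = 1 := by ext1; rw [Units.val_pow_eq_pow_val]; exact hn1
    have := Nat.le_of_dvd (Nat.pos_of_ne_zero hn0) (orderOf_dvd_of_pow_eq_one this)
    omega
  · refine ⟨n + 1, ?_⟩
    rw [← sq, ← pow_mul, show 2 * (n + 1) = orderOf u + 1 by omega, pow_succ, hu, one_mul]

theorem mul_mem_of_commute [Finite X] (h : Spread S) {a b : R} (ha : a ∈ S) (hb : b ∈ S) (hab : Commute a b) :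
    a * b ∈ S := by
  obtain ⟨k, hk⟩ := h.exists_sq_pow ha
  have e : a ^ k * b * a ^ k = a * b := by
    rw [mul_assoc, ← (hab.pow_left k).eq, ← mul_assoc, ← (Commute.refl a).mul_pow, hk]
  rw [← e]
  exact h.jordan (h.pow_mem ha k) hb

theorem commute_of_commute_sq [Finite X] (h : Spread S) {a b : R} (ha : a ∈ S) (hab : Commute (a * a) b) :
    Commute a b := by
  obtain ⟨k, hk⟩ := h.exists_sq_pow ha
  have := hab.pow_left k
  rwa [hk] at this

end Spread

/-- `y` is an eigenvector of right multiplication, for the automorphism `τ`. -/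
def Eig {K : Type*} [Field K] (ι : K →+* AddMonoid.End X) (τ : K ≃+* K) (y : AddMonoid.End X) : Prop :=
  ∀ c, y * ι c = ι (τ c) * y

section Field

variable {K : Type*} [Field K] [Finite K] {ι : K →+* AddMonoid.End X}

theorem Eig.mul {τ τ' : K ≃+* K} {y y' : R} (h : Eig ι τ y) (h' : Eig ι τ' y') : Eig ι (τ * τ') (y * y') := by
  intro c
  rw [mul_assoc, h' c, ← mul_assoc, h, mul_assoc]
  rfl

theorem Eig.smul {τ : K ≃+* K} {y : R} (h : Eig ι τ y) (g : K) : Eig ι τ (ι g * y) := by
  intro c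
  rw [mul_assoc, h c, ← mul_assoc, ← mul_assoc, ← map_mul, ← map_mul, mul_comm g]

theorem Eig.pow {τ : K ≃+* K} {y : R} (h : Eig ι τ y) : ∀ k : ℕ, Eig ι (τ ^ k) (y ^ k)
  | 0 => fun c => by rw [pow_zero, pow_zero, one_mul, RingAut.one_apply, mul_one]
  | k + 1 => by rw [pow_succ, pow_succ]; exact (h.pow k).mul h

theorem eq_zero_of_ι_mul {g : K} {y : R} (hg : g ≠ 0) (h : ι g * y = 0) : y = 0 := by
  calc y = ι (g⁻¹ * g) * y := by rw [inv_mul_cancel₀ hg, map_one, one_mul]
    _ = 0 := by rw [map_mul, mul_assoc, h, mul_zero]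

theorem eq_of_ι_mul {g g' : K} {y : R} (hy : y ≠ 0) (h : ι g * y = ι g' * y) : g = g' := by
  by_contra hne
  exact hy (eq_zero_of_ι_mul (sub_ne_zero.mpr hne) (by rw [map_sub, sub_mul, h, sub_self]))

/-- An eigenvector for a generator gives an automorphism. -/
theorem exists_eig {a : K} (hgen : ∀ c : K, c ≠ 0 → ∃ k : ℕ, a ^ k = c) {y : R} (hy : y ≠ 0) {t : K}
    (ht : y * ι a = ι t * y) : ∃ τ : K ≃+* K, τ a = t ∧ Eig ι τ y := by
  have hex : ∀ c : K, ∃ d : K, y * ι c = ι d * y := by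
    intro c
    by_cases hc : c = 0
    · exact ⟨0, by rw [hc, map_zero, mul_zero, zero_mul]⟩
    obtain ⟨k, rfl⟩ := hgen c hc
    refine ⟨t ^ k, ?_⟩
    clear hc
    induction k with
    | zero => rw [pow_zero, pow_zero, map_one, mul_one, one_mul]
    | succ k ih =>
      rw [pow_succ, map_mul, ← mul_assoc, ih, mul_assoc, ht, ← mul_assoc, ← map_mul, pow_succ]
  choose d hd using hex
  let f : K →+* K :=
    { toFun := d
      map_one' := eq_of_ι_mul hy (by rw [← hd, map_one, mul_one, one_mul])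
      map_mul' := fun c c' => eq_of_ι_mul hy (by
        rw [← hd, map_mul, ← mul_assoc, hd, mul_assoc, hd, ← mul_assoc, ← map_mul])
      map_zero' := eq_of_ι_mul hy (by rw [← hd, map_zero, mul_zero, zero_mul])
      map_add' := fun c c' => eq_of_ι_mul hy (by rw [← hd, map_add, mul_add, hd, hd, ← add_mul, ← map_add]) }
  refine ⟨RingEquiv.ofBijective f ⟨f.injective, Finite.surjective_of_injective f.injective⟩,
    eq_of_ι_mul hy ((hd a).symm.trans ht), fun c => hd c⟩

theorem aut_ext {a : K} (hgen : ∀ c : K, c ≠ 0 → ∃ k : ℕ, a ^ k = c) {τ τ' : K ≃+* K} (h : τ a = τ' a) :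
    τ = τ' := by
  ext c
  by_cases hc : c = 0
  · rw [hc, map_zero, map_zero]
  obtain ⟨k, rfl⟩ := hgen c hc
  rw [map_pow, map_pow, h]

theorem aut_pow_fixed (σ : K ≃+* K) {c : K} (h : σ c = c) (k : ℕ) : (σ ^ k) c = c := by
  induction k with
  | zero => rfl
  | succ k ih => rw [pow_succ, RingAut.mul_apply, h, ih]

/-- Norms onto the fixed field are surjective. -/
theorem exists_norm (σ : K ≃+* K) {c : K} (hc : σ c = c) :
    ∃ l : K, ∏ i ∈ Finset.range (orderOf σ), (σ ^ i) l = c := by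
  classical
  haveI : Finite (K ≃+* K) := Finite.of_injective (fun f : K ≃+* K => (f : K → K)) DFunLike.coe_injective
  let H := Subgroup.zpowers σ
  letI : Fintype H := Fintype.ofFinite _
  letI : Fintype K := Fintype.ofFinite _
  haveI : FaithfulSMul H K := ⟨fun {a b} h => Subtype.ext (RingEquiv.ext h)⟩
  let K0 := FixedPoints.subfield H K
  have hcK : c ∈ K0 := by
    intro g
    obtain ⟨g, hg⟩ := g
    obtain ⟨k, hk⟩ := (isOfFinOrder_of_finite σ).mem_powers_iff_mem_zpowers.mpr hg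
    subst hk
    exact aut_pow_fixed σ hc k
  obtain ⟨l, hl⟩ := FiniteField.norm_surjective K0 K ⟨c, hcK⟩
  refine ⟨l, ?_⟩
  have e := Algebra.norm_eq_prod_automorphisms K0 l
  rw [hl] at e
  refine Eq.trans ?_ e.symm
  rw [← (FixedPoints.toAlgAutMulEquiv H K).toEquiv.prod_comp,
    ← (finEquivZPowers (isOfFinOrder_of_finite σ)).prod_comp, ← Fin.prod_univ_eq_prod_range]
  rfl

theorem exists_fixed_sq (σ : K ≃+* K) (heven : Even (orderOf σ)) :
    ∃ c : K, (σ ^ 2) c = c ∧ σ c ≠ c := by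
  classical
  haveI : Finite (K ≃+* K) := Finite.of_injective (fun f : K ≃+* K => (f : K → K)) DFunLike.coe_injective
  by_contra hcon
  push Not at hcon
  let H := Subgroup.zpowers (σ ^ 2)
  haveI : FaithfulSMul H K := ⟨fun {a b} h => Subtype.ext (RingEquiv.ext h)⟩
  let K0 := FixedPoints.subfield H K
  let φ : K ≃ₐ[K0] K := AlgEquiv.ofRingEquiv (f := σ) fun x => hcon x.1 (x.2 ⟨σ ^ 2, Subgroup.mem_zpowers _⟩)
  obtain ⟨g, hg⟩ := (FixedPoints.toAlgAutMulEquiv H K).surjective φ
  have hgs : (g : K ≃+* K) = σ := RingEquiv.ext fun x => DFunLike.congr_fun hg x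
  have hmem : σ ∈ Subgroup.zpowers (σ ^ 2) := by
    have := g.2
    rw [hgs] at this
    exact this
  obtain ⟨k, hk⟩ := (isOfFinOrder_of_finite (σ ^ 2)).mem_powers_iff_mem_zpowers.mpr hmem
  obtain ⟨n, hn⟩ := heven
  have h1 : (σ ^ 2) ^ k = σ ^ 1 := by rw [pow_one]; exact hk
  rw [← pow_mul, pow_eq_pow_iff_modEq, hn] at h1
  obtain ⟨r, hr⟩ := Nat.modEq_iff_dvd.mp h1
  have : (2 : ℤ) ∣ 1 - 2 * (k : ℤ) := ⟨(n : ℤ) * r, by push_cast at hr; linarith⟩
  omega

/-- A semilinear map with scalar order-th power has an eigenvector. -/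
theorem exists_eigvec (σ : K ≃+* K) {x : R} (hx : Eig ι σ x) {v0 : X} (hv0 : v0 ≠ 0) {μ : K} (hμ0 : μ ≠ 0)
    (hμ : σ μ = μ) (hpow : (x ^ orderOf σ) v0 = ι μ v0) :
    ∃ (v : X) (l : K), v ≠ 0 ∧ l ≠ 0 ∧ x v = ι l v ∧
      ∀ U : AddSubgroup X, v0 ∈ U → (∀ c, ∀ u ∈ U, ι c u ∈ U) → (∀ u ∈ U, x u ∈ U) → v ∈ U := by
  classical
  haveI : Finite (K ≃+* K) := Finite.of_injective (fun f : K ≃+* K => (f : K → K)) DFunLike.coe_injective
  set m := orderOf σ with hm
  have hmpos : 0 < m := (isOfFinOrder_of_finite σ).orderOf_pos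
  obtain ⟨l, hl⟩ := exists_norm σ (c := μ⁻¹) (by rw [map_inv₀, hμ])
  rw [← hm] at hl
  have hl0 : l ≠ 0 := by
    rintro rfl
    apply inv_ne_zero hμ0
    rw [← hl]
    exact Finset.prod_eq_zero (Finset.mem_range.mpr hmpos) (map_zero _)
  set y := ι l * x with hy
  have hyk : ∀ k : ℕ, y ^ k = ι (∏ i ∈ Finset.range k, (σ ^ i) l) * x ^ k := by
    intro k
    induction k with
    | zero => simp
    | succ k ih =>
      rw [pow_succ, ih, hy, mul_assoc, ← mul_assoc (x ^ k), hx.pow k l, Finset.prod_range_succ, map_mul,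
        pow_succ]
      simp only [mul_assoc]
  have hym : (y ^ m) v0 = v0 := by
    rw [hyk, hl]
    show ι μ⁻¹ ((x ^ m) v0) = v0
    rw [hpow]
    show (ι μ⁻¹ * ι μ) v0 = v0
    rw [← map_mul, inv_mul_cancel₀ hμ0, map_one]
    rfl
  letI : Module K X := Module.compHom X ι
  have hsm : ∀ (c : K) (u : X), c • u = ι c u := fun _ _ => rfl
  have heigy : Eig ι σ y := hx.smul l
  have hycomm : ∀ (i : ℕ) (c : K), (y ^ i) (ι c v0) = (σ ^ i) c • (y ^ i) v0 := by
    intro i c
    show ((y ^ i) * ι c) v0 = _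
    rw [heigy.pow i c]
    rfl
  have hex : ∃ c : K, (∑ i ∈ Finset.range m, (y ^ i) (ι c v0)) ≠ 0 := by
    by_contra hcon
    push Not at hcon
    obtain ⟨φ, hφ⟩ : ∃ φ : Module.Dual K X, φ v0 ≠ 0 := by
      by_contra h
      push Not at h
      exact hv0 ((Module.forall_dual_apply_eq_zero_iff K v0).mp h)
    let f : Fin m → (K →* K) := fun i => ((σ ^ (i : ℕ) : K ≃+* K) : K →+* K).toMonoidHom
    have hf : Function.Injective f := by
      intro i j hij
      have : σ ^ (i : ℕ) = σ ^ (j : ℕ) := RingEquiv.ext fun c => DFunLike.congr_fun hij c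
      exact Fin.ext (pow_injOn_Iio_orderOf i.2 j.2 this)
    have hli := (linearIndependent_monoidHom K K).comp f hf
    have h0 := Fintype.linearIndependent_iff.mp hli (fun i => φ ((y ^ (i : ℕ)) v0)) (by
      funext c
      have := congrArg φ (hcon c)
      rw [map_sum, map_zero, ← Fin.sum_univ_eq_sum_range] at this
      simp only [hycomm, map_smul, smul_eq_mul] at this
      simp only [Finset.sum_apply, Pi.smul_apply, Function.comp, smul_eq_mul, Pi.zero_apply]
      refine Eq.trans (Finset.sum_congr rfl fun i _ => ?_) this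
      exact mul_comm _ _) ⟨0, hmpos⟩
    rw [show ((⟨0, hmpos⟩ : Fin m) : ℕ) = 0 from rfl, pow_zero] at h0
    exact hφ h0
  obtain ⟨c, hc⟩ := hex
  set v := ∑ i ∈ Finset.range m, (y ^ i) (ι c v0) with hv
  have hyv : y v = v := by
    have h1 : y v = ∑ i ∈ Finset.range m, (y ^ (i + 1)) (ι c v0) := by
      rw [hv, map_sum]
      exact Finset.sum_congr rfl fun i _ => by rw [pow_succ']; rfl
    have e1 : ∑ i ∈ Finset.range (m + 1), (y ^ i) (ι c v0) = v + ι c v0 := by
      rw [Finset.sum_range_succ, ← hv, hycomm, hym, hm, pow_orderOf_eq_one]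
      rfl
    rw [Finset.sum_range_succ', ← h1, pow_zero] at e1
    exact add_right_cancel e1
  refine ⟨v, l⁻¹, hc, inv_ne_zero hl0, ?_, ?_⟩
  · have : ι l⁻¹ (y v) = x v := by
      show (ι l⁻¹ * (ι l * x)) v = x v
      rw [← mul_assoc, ← map_mul, inv_mul_cancel₀ hl0, map_one, one_mul]
    rw [← this, hyv]
  · intro U h0 hι hxU
    have : ∀ i : ℕ, ∀ u ∈ U, (y ^ i) u ∈ U := by
      intro i
      induction i with
      | zero => exact fun u hu => hu
      | succ i ih => exact fun u hu => by rw [pow_succ']; exact hι l _ (hxU _ (ih u hu))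
    exact U.sum_mem fun i _ => this i _ (hι c v0 h0)

end Field

end Cfsg.Agent.Lib.TIRoot
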