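import Cfsg.Agent.Lib.TIRoot.JordanComm

/-!
Spread sets closed under inversion are commutative.
-/

set_option autoImplicit false

namespace Cfsg.Agent.Lib.TIRoot

open Function Finset

universe u

variable {X : Type u} [AddCommGroup X] [Finite X]

local notation "R" => AddMonoid.End X

variable {S : AddSubgroup (AddMonoid.End X)} {K : Type u} [Field K] [Fintype K] [DecidableEq K]

namespace MaxField

theorem aut_pow_ne {σ : K ≃+* K} (hσ : σ ≠ 1) (hodd : Odd (orderOf σ)) : σ ^ 2 ≠ 1 ∧ σ ^ 4 ≠ 1 := by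
  have h1 : orderOf σ ≠ 1 := fun e => hσ (orderOf_eq_one_iff.mp e)
  obtain ⟨n, hn⟩ := hodd
  constructor <;> intro e
  · have := Nat.le_of_dvd two_pos (orderOf_dvd_of_pow_eq_one e); omega
  · have hd := orderOf_dvd_of_pow_eq_one e
    have := Nat.le_of_dvd (by norm_num) hd
    have h3 : orderOf σ = 3 := by omega
    rw [h3] at hd
    omega

omit [DecidableEq K] [Fintype K] [Finite X] in
theorem two_eq_zero (h : Spread S) (F : MaxField S K) [Nontrivial (AddMonoid.End X)] (c : K) : c + c = 0 :=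
  F.ι.injective (by rw [map_add, h.add_self, map_zero])

omit [Finite X] in
/-- No element of the spread set kills a nonzero vector. -/
theorem no_kill (h : Spread S) (F : MaxField S K) {σ : K ≃+* K} (hσ : σ ≠ 1) (h2 : σ ^ 2 ≠ 1) {x x' : R}
    (hx0 : x ≠ 0) (hx : Eig F.ι σ x) (hx' : Eig F.ι σ⁻¹ x')
    (hmem : ∀ g, F.ι g * x + F.ι (σ⁻¹ g) * x' ∈ S) {v : X} (hv : v ≠ 0) {l l' : K} (hl : x v = F.ι l v)
    (hl' : x' v = F.ι l' v) : False := by
  have hb : x + x' ∈ S := by simpa using hmem 1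
  set s := F.ι (l + l') + x + x' with hs
  have hsS : s ∈ S := by
    rw [hs, add_assoc]
    exact S.add_mem (F.mem _) hb
  have hsv : s v = 0 := by
    rw [hs]
    show F.ι (l + l') v + x v + x' v = 0
    rw [map_add]
    show F.ι l v + F.ι l' v + x v + x' v = 0
    rw [hl, hl', add_assoc (F.ι l v + F.ι l' v)]
    exact h.two _
  by_cases hs0 : s = 0
  · apply hx0
    have := congrArg (comp F.ι F.a (σ F.a)) hs0
    rw [hs, map_zero, map_add, map_add, comp_eig F.ι F.a (τ := 1) (fun c => by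
        rw [RingAut.one_apply, ← map_mul, ← map_mul, mul_comm]),
      comp_eig F.ι F.a hx, comp_eig F.ι F.a hx'] at this
    rw [if_neg (fun e => hσ (aut_ext F.gen e).symm), if_pos rfl, if_neg (fun e => h2 (by
      rw [sq]; have := aut_ext F.gen e
      conv_lhs => arg 1; rw [← this]
      exact inv_mul_cancel σ))] at this
    simpa using this
  · exact hv (h.apply_eq_zero hsS hs0 hsv)

/-- The zero degree part. -/
theorem exists_scalar_products (h : Spread S) (F : MaxField S K) {σ : K ≃+* K} (hσ : σ ≠ 1)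
    (hodd : Odd (orderOf σ)) {x x' : R} (hx0 : x ≠ 0) (hx : Eig F.ι σ x) (hx' : Eig F.ι σ⁻¹ x')
    (hmem : ∀ g, F.ι g * x + F.ι (σ⁻¹ g) * x' ∈ S) :
    ∃ υ υ' : K, x * x' = F.ι υ ∧ x' * x = F.ι υ' ∧ σ υ' = υ := by
  obtain ⟨h2, h4⟩ := aut_pow_ne hσ hodd
  have hb : x + x' ∈ S := by simpa using hmem 1
  have key : ∀ a' : K, ∃ e, F.ι (σ a') * (x * x') + F.ι (σ⁻¹ a') * (x' * x) = F.ι e := by
    intro a'
    set z0 := F.ι (σ a') * (x * x') + F.ι (σ⁻¹ a') * (x' * x) with hz0
    set z2 := F.ι (σ a') * (x * x) + F.ι (σ⁻¹ a') * (x' * x') with hz2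
    have hz : (x + x') * F.ι a' * (x + x') = z0 + z2 := by
      rw [hz0, hz2, add_mul x x', hx a', hx' a']
      simp only [mul_add, add_mul, mul_assoc]
      abel
    have e1 : Eig F.ι 1 (x * x') := by rw [← mul_inv_cancel σ]; exact hx.mul hx'
    have e1' : Eig F.ι 1 (x' * x) := by rw [← inv_mul_cancel σ]; exact hx'.mul hx
    have n2 : ((1 : K ≃+* K) F.a = (σ ^ 2) F.a) → False := fun e => h2 (aut_ext F.gen e).symm
    have p0 : ∀ {y : R} (g : K), Eig F.ι 1 y → proj F.ι F.a (σ ^ 2) 1 (F.ι g * y) = 0 := by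
      intro y g hy
      rw [proj_eig F.ι F.a _ _ (hy.smul g), if_neg n2, if_neg (fun e => n2 (by rw [RingAut.one_apply] at e ⊢; exact e.symm)),
        map_zero, zero_mul, add_zero]
    have p2 : proj F.ι F.a (σ ^ 2) 1 (F.ι (σ a') * (x * x)) = F.ι (σ a') * (x * x) := by
      rw [proj_eig F.ι F.a _ _ ((hx.mul hx).smul _), if_pos (by rw [← sq]),
        if_neg (fun e => h4 (aut_ext F.gen (τ' := (1 : K ≃+* K)) (by
          rw [show σ ^ 4 = σ * σ * σ ^ 2 by rw [← pow_two σ, ← pow_add]]
          exact e))), map_one, one_mul, map_zero, zero_mul, add_zero]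
    have p2' : proj F.ι F.a (σ ^ 2) 1 (F.ι (σ⁻¹ a') * (x' * x')) = F.ι (σ⁻¹ a') * (x' * x') := by
      rw [proj_eig F.ι F.a _ _ ((hx'.mul hx').smul _),
        if_neg (fun e => h4 (by
          have := aut_ext F.gen e
          calc σ ^ 4 = σ ^ 2 * σ ^ 2 := by rw [← pow_add]
            _ = σ ^ 2 * (σ⁻¹ * σ⁻¹) := by rw [this]
            _ = 1 := by rw [← pow_two σ⁻¹, inv_pow, mul_inv_cancel])),
        if_pos (by
          show ((σ⁻¹ * σ⁻¹) * σ ^ 2) F.a = F.a
          rw [← pow_two σ⁻¹, inv_pow, inv_mul_cancel, RingAut.one_apply]),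
        map_one, map_one, one_mul, map_zero, zero_mul, zero_add]
    have hproj : proj F.ι F.a (σ ^ 2) 1 ((x + x') * F.ι a' * (x + x')) = z2 := by
      rw [hz, hz0, hz2, map_add, map_add, map_add, p0 _ e1, p0 _ e1', p2, p2', zero_add, zero_add]
    have hz0S : z0 ∈ S := by
      have h1 := S.sub_mem (h.jordan hb (F.mem a')) (F.proj_mem h (σ ^ 2) 1 (h.jordan hb (F.mem a')))
      rw [hproj, hz, add_sub_cancel_right] at h1
      exact h1
    obtain ⟨e, he⟩ := F.maximal z0 hz0S fun c => by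
      rw [hz0, add_mul, mul_add, (e1.smul _) c, (e1'.smul _) c, RingAut.one_apply]
    exact ⟨e, he.symm⟩
  obtain ⟨e, he⟩ := key 1
  simp only [map_one, one_mul] at he
  obtain ⟨a', ha'⟩ : ∃ a', σ a' ≠ σ⁻¹ a' := by
    by_contra hcon
    push Not at hcon
    apply h2
    rw [sq]
    ext c
    show σ (σ c) = c
    rw [hcon (σ c)]
    exact RingEquiv.symm_apply_apply σ c
  obtain ⟨e', he'⟩ := key a'
  have hu : F.ι (σ a' - σ⁻¹ a') * (x * x') = F.ι (e' - σ⁻¹ a' * e) := by
    rw [map_sub, map_sub, map_mul, ← he', ← he, sub_mul, mul_add]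
    abel
  have hxx : x * x' = F.ι ((σ a' - σ⁻¹ a')⁻¹ * (e' - σ⁻¹ a' * e)) := by
    rw [map_mul, ← hu, ← mul_assoc, ← map_mul, inv_mul_cancel₀ (sub_ne_zero.mpr ha'), map_one, one_mul]
  set υ := (σ a' - σ⁻¹ a')⁻¹ * (e' - σ⁻¹ a' * e)
  have hxx' : x' * x = F.ι (e - υ) := by rw [map_sub, ← hxx, ← he, add_sub_cancel_left]
  refine ⟨υ, e - υ, hxx, hxx', eq_of_ι_mul (ι := F.ι) hx0 ?_⟩
  rw [← hx, ← hxx', ← mul_assoc, hxx]

/-- The case of invertible eigenvectors. -/
theorem false_of_inverse (h : Spread S) (F : MaxField S K) {σ : K ≃+* K} (hσ : σ ≠ 1)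
    (hodd : Odd (orderOf σ)) {x x' : R} (hx0 : x ≠ 0) (hx : Eig F.ι σ x) (hx' : Eig F.ι σ⁻¹ x')
    (hmem : ∀ g, F.ι g * x + F.ι (σ⁻¹ g) * x' ∈ S) (h1 : x * x' = 1) (h1' : x' * x = 1) : False := by
  obtain ⟨h2, -⟩ := aut_pow_ne hσ hodd
  haveI : Nontrivial R := ⟨x, 0, hx0⟩
  set m := orderOf σ with hm
  have hb : x + x' ∈ S := by simpa using hmem 1
  have hcomm : Commute x x' := h1.trans h1'.symm
  have hstep : ∀ k : ℕ, (x + x') * (x ^ (k + 1) + x' ^ (k + 1)) =
      (x ^ (k + 2) + x' ^ (k + 2)) + (x ^ k + x' ^ k) := by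
    intro k
    have e1 : x' * x ^ (k + 1) = x ^ k := by rw [pow_succ', ← mul_assoc, h1', one_mul]
    have e2 : x * x' ^ (k + 1) = x' ^ k := by rw [pow_succ', ← mul_assoc, h1, one_mul]
    rw [add_mul, mul_add, mul_add, e1, e2, ← pow_succ', ← pow_succ']
    abel
  have hcb : ∀ k, Commute (x + x') (x ^ k + x' ^ k) := fun k =>
    Commute.add_left
      (((Commute.refl x).pow_right k).add_right (hcomm.pow_right k))
      ((hcomm.symm.pow_right k).add_right ((Commute.refl x').pow_right k))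
  have hT : ∀ k : ℕ, x ^ k + x' ^ k ∈ S ∧ x ^ (k + 1) + x' ^ (k + 1) ∈ S := by
    intro k
    induction k with
    | zero => exact ⟨by rw [pow_zero, pow_zero, h.add_self]; exact S.zero_mem, by simpa using hb⟩
    | succ k ih =>
      refine ⟨ih.2, ?_⟩
      have := S.sub_mem (h.mul_mem_of_commute hb ih.2 (hcb (k + 1))) ih.1
      rwa [hstep, add_sub_cancel_right] at this
  set w := x ^ m with hw
  set w' := x' ^ m with hw'
  have hw1 : w * w' = 1 := by rw [hw, hw', ← hcomm.mul_pow, h1, one_pow]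
  have hw1' : w' * w = 1 := by rw [hw, hw', ← hcomm.symm.mul_pow, h1', one_pow]
  have hwc : ∀ c, w * F.ι c = F.ι c * w := by
    intro c
    have := hx.pow m c
    rw [hm, pow_orderOf_eq_one, RingAut.one_apply] at this
    exact this
  have hwc' : ∀ c, w' * F.ι c = F.ι c * w' := by
    intro c
    have := hx'.pow m c
    rw [inv_pow, hm, pow_orderOf_eq_one, inv_one, RingAut.one_apply] at this
    exact this
  obtain ⟨ω, hω⟩ := F.maximal (w + w') (hT m).1 fun c => by rw [add_mul, mul_add, hwc, hwc']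
  have hwx : x * w = w * x := ((Commute.refl x).pow_right m).eq
  have hwx' : x * w' = w' * x := (hcomm.pow_right m).eq
  have hσω : σ ω = ω := eq_of_ι_mul hx0 (by
    rw [← hx, hω, mul_add, add_mul, hwx, hwx'])
  have hw2 : w * w = F.ι ω * w + 1 := by
    rw [hω, add_mul, hw1', add_assoc, h.add_self, add_zero]
  have hfix_inv : ∀ c, σ c = c → σ⁻¹ c = c := fun c hc => by
    conv_lhs => rw [← hc]
    exact RingEquiv.symm_apply_apply σ c
  by_cases hroot : ∃ ξ : K, ξ * ξ + ω * ξ + 1 = 0
  · obtain ⟨ξ, hξ⟩ := hroot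
    have hξ2 : ξ * (ξ + ω) = 1 := by
      have e : ξ * (ξ + ω) - 1 = 0 := by
        have := two_eq_zero h F (1 : K)
        linear_combination hξ - this
      exact sub_eq_zero.mp e
    have hσξ : σ ξ = ξ := by
      have e := congrArg σ hξ
      rw [map_add, map_add, map_mul, map_mul, map_one, map_zero, hσω] at e
      have hprod : (σ ξ - ξ) * (σ ξ - (ξ + ω)) = 0 := by
        have := two_eq_zero h F (ξ * σ ξ)
        have := two_eq_zero h F (ω * σ ξ)
        linear_combination e + hξ2 - (two_eq_zero h F (ξ * σ ξ)) - (two_eq_zero h F (ω * σ ξ))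
      rcases mul_eq_zero.mp hprod with e1 | e1
      · exact sub_eq_zero.mp e1
      · have e2 : σ ξ = ξ + ω := sub_eq_zero.mp e1
        have e3 : (σ ^ 2) ξ = ξ := by
          show σ (σ ξ) = ξ
          rw [e2, map_add, e2, hσω, add_assoc, two_eq_zero h F ω, add_zero]
        obtain ⟨n, hn⟩ := hodd
        have e4 := aut_pow_fixed (σ ^ 2) e3 (n + 1)
        rw [← pow_mul, show 2 * (n + 1) = m + 1 by omega, pow_succ, hm, pow_orderOf_eq_one, one_mul] at e4
        exact e4
    obtain ⟨μ, v0, hμ0, hμσ, hv0, hwv0⟩ :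
        ∃ (μ : K) (v0 : X), μ ≠ 0 ∧ σ μ = μ ∧ v0 ≠ 0 ∧ w v0 = F.ι μ v0 := by
      have hξ0 : ξ ≠ 0 := left_ne_zero_of_mul_eq_one hξ2
      have hξ1 : ξ + ω ≠ 0 := right_ne_zero_of_mul_eq_one hξ2
      obtain ⟨u0, hu0⟩ : ∃ u : X, u ≠ 0 := by
        by_contra hcon
        push Not at hcon
        exact hx0 (AddMonoidHom.ext fun u => hcon _)
      have hfac : (w + F.ι ξ) * (w + F.ι (ξ + ω)) = 0 := by
        have e : (w + F.ι ξ) * (w + F.ι (ξ + ω)) =
            w * w + (F.ι (ξ + ω) + F.ι ξ) * w + F.ι (ξ * (ξ + ω)) := by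
          rw [add_mul, mul_add, mul_add, hwc, map_mul, add_mul]
          abel
        rw [e, hξ2, map_one, hw2, ← map_add, add_comm (ξ + ω), ← add_assoc ξ, two_eq_zero h F ξ, zero_add,
          add_assoc (F.ι ω * w), add_comm (1 : R), add_assoc (F.ι ω * w), add_assoc (F.ι ω * w) (1 : R),
          h.add_self, add_zero, h.add_self]
      by_cases hz : (w + F.ι (ξ + ω)) u0 = 0
      · refine ⟨ξ + ω, u0, hξ1, by rw [map_add, hσξ, hσω], hu0, ?_⟩
        have e : w u0 + F.ι (ξ + ω) u0 = 0 := hz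
        rw [eq_neg_of_add_eq_zero_left e]
        exact DFunLike.congr_fun (h.neg_eq (F.ι (ξ + ω))) u0
      · refine ⟨ξ, _, hξ0, hσξ, hz, ?_⟩
        have e : (w + F.ι ξ) ((w + F.ι (ξ + ω)) u0) = 0 := DFunLike.congr_fun hfac u0
        set v := (w + F.ι (ξ + ω)) u0
        have e' : w v + F.ι ξ v = 0 := e
        rw [eq_neg_of_add_eq_zero_left e']
        exact DFunLike.congr_fun (h.neg_eq (F.ι ξ)) v
    obtain ⟨v, l, hv, hl0, hl, -⟩ := exists_eigvec σ hx hv0 hμ0 hμσ (by rw [← hm]; exact hwv0)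
    refine F.no_kill h hσ h2 hx0 hx hx' hmem hv hl (l' := (σ⁻¹ l)⁻¹) ?_
    have e : v = F.ι (σ⁻¹ l) (x' v) := by
      calc v = (x' * x) v := by rw [h1']; rfl
        _ = (x' * F.ι l) v := congrArg x' hl
        _ = F.ι (σ⁻¹ l) (x' v) := by rw [hx' l]; rfl
    conv_rhs => rw [e]
    show x' v = (F.ι (σ⁻¹ l)⁻¹ * F.ι (σ⁻¹ l)) (x' v)
    rw [← map_mul, inv_mul_cancel₀ (show σ⁻¹ l ≠ 0 from (map_ne_zero σ⁻¹.toRingHom).mpr hl0), map_one]
    rfl
  · push Not at hroot
    -- the quadratic extension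
    let el : K × K → R := fun p => F.ι p.1 + F.ι p.2 * w
    have elmul : ∀ p q : K × K, el p * el q =
        el (p.1 * q.1 + p.2 * q.2, p.1 * q.2 + p.2 * q.1 + p.2 * q.2 * ω) := by
      intro p q
      have e : ∀ f g : K, F.ι f * w * (F.ι g * w) = F.ι (f * g) * (w * w) := by
        intro f g
        rw [mul_assoc, ← mul_assoc w, hwc, mul_assoc (F.ι g), ← mul_assoc, ← map_mul]
      show (F.ι p.1 + F.ι p.2 * w) * (F.ι q.1 + F.ι q.2 * w) =
        F.ι (p.1 * q.1 + p.2 * q.2) + F.ι (p.1 * q.2 + p.2 * q.1 + p.2 * q.2 * ω) * w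
      rw [mul_add, add_mul, add_mul, e, hw2, mul_assoc (F.ι p.2) w, hwc, ← mul_assoc (F.ι p.2),
        ← mul_assoc (F.ι p.1)]
      simp only [map_add, map_mul, add_mul, mul_add, mul_assoc, mul_one]
      abel
    let L : Subring R :=
      { carrier := Set.range el
        mul_mem' := by rintro _ _ ⟨p, rfl⟩ ⟨q, rfl⟩; exact ⟨_, (elmul p q).symm⟩
        one_mem' := ⟨(1, 0), by simp [el]⟩
        add_mem' := by rintro _ _ ⟨p, rfl⟩ ⟨q, rfl⟩; exact ⟨p + q, by simp [el, add_mul]; abel⟩
        zero_mem' := ⟨0, by simp [el]⟩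
        neg_mem' := by rintro _ ⟨p, rfl⟩; exact ⟨-p, by simp [el, neg_mul]; abel⟩ }
    have hιL : ∀ c, F.ι c ∈ L := fun c => ⟨(c, 0), by simp [el]⟩
    have hwL : w ∈ L := ⟨(0, 1), by simp [el]⟩
    have hw'L : w' ∈ L := ⟨(ω, 1), by
      show F.ι ω + F.ι 1 * w = w'
      rw [map_one, one_mul, hω, add_comm w, add_assoc, h.add_self, add_zero]⟩
    haveI : Finite R := Finite.of_injective (fun f : R => (f : X → X)) DFunLike.coe_injective
    letI : CommRing L :=
      { (inferInstance : Ring L) with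
        mul_comm := by
          rintro ⟨_, p, rfl⟩ ⟨_, q, rfl⟩
          apply Subtype.ext
          show el p * el q = el q * el p
          rw [elmul, elmul]
          congr 2 <;> ring }
    haveI : Nontrivial L := ⟨⟨0, 1, fun e => zero_ne_one (α := R) (congrArg Subtype.val e)⟩⟩
    haveI : NoZeroDivisors L := by
      refine ⟨?_⟩
      rintro ⟨_, p, rfl⟩ ⟨_, q, rfl⟩ e
      by_cases hp : p = 0
      · left; subst hp; apply Subtype.ext; simp [el]
      right
      apply Subtype.ext
      have e' : el p * el q = 0 := congrArg Subtype.val e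
      have hδ : p.1 * (p.1 + p.2 * ω) + p.2 * p.2 ≠ 0 := by
        by_cases hp2 : p.2 = 0
        · intro e0
          apply hp
          rw [hp2, zero_mul, mul_zero, add_zero, add_zero, mul_self_eq_zero] at e0
          exact Prod.ext e0 hp2
        · intro e0
          apply hroot (p.1 / p.2)
          field_simp
          linear_combination e0
      have e2 : el (p.1 + p.2 * ω, p.2) * el p = F.ι (p.1 * (p.1 + p.2 * ω) + p.2 * p.2) := by
        rw [elmul]
        show F.ι _ + F.ι _ * w = _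
        have : (p.1 + p.2 * ω) * p.2 + p.2 * p.1 + p.2 * p.2 * ω = 0 := by
          linear_combination two_eq_zero h F (p.1 * p.2 + p.2 * p.2 * ω)
        rw [this, map_zero, zero_mul, add_zero, mul_comm (p.1 + p.2 * ω)]
      show el q = 0
      exact eq_zero_of_ι_mul hδ (by rw [← e2, mul_assoc, e', mul_zero])
    haveI : IsDomain L := NoZeroDivisors.to_isDomain L
    letI : Fintype L := Fintype.ofFinite _
    classical
    letI : Field L := Fintype.fieldOfDomain L
    have conjmem : ∀ (τ : K ≃+* K) (y y' : R), Eig F.ι τ y → y * y' = 1 → y * w = w * y →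
        ∀ s ∈ L, y * s * y' ∈ L := by
      rintro τ y y' hy hyy hyw _ ⟨p, rfl⟩
      refine ⟨(τ p.1, τ p.2), ?_⟩
      show F.ι (τ p.1) + F.ι (τ p.2) * w = y * (F.ι p.1 + F.ι p.2 * w) * y'
      rw [mul_add, add_mul, hy, mul_assoc, hyy, mul_one, ← mul_assoc, hy, mul_assoc (F.ι (τ p.2)) y, hyw,
        mul_assoc, mul_assoc w, hyy, mul_one]
    have hwx2 : x' * w = w * x' := (hcomm.symm.pow_right m).eq
    let σL : L ≃+* L :=
      { toFun := fun s => ⟨x * s.1 * x', conjmem σ x x' hx h1 hwx s.1 s.2⟩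
        invFun := fun s => ⟨x' * s.1 * x, conjmem σ⁻¹ x' x hx' h1' hwx2 s.1 s.2⟩
        left_inv := fun s => Subtype.ext (by
          show x' * (x * s.1 * x') * x = s.1
          simp only [← mul_assoc, h1', one_mul]
          rw [mul_assoc, h1', mul_one])
        right_inv := fun s => Subtype.ext (by
          show x * (x' * s.1 * x) * x' = s.1
          simp only [← mul_assoc, h1, one_mul]
          rw [mul_assoc, h1, mul_one])
        map_mul' := fun s t => Subtype.ext (by
          show x * (s.1 * t.1) * x' = x * s.1 * x' * (x * t.1 * x')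
          simp only [mul_assoc]
          rw [← mul_assoc x' x, h1', one_mul])
        map_add' := fun s t => Subtype.ext (by
          show x * (s.1 + t.1) * x' = x * s.1 * x' + x * t.1 * x'
          rw [mul_add, add_mul]) }
    have hpowL : ∀ (k : ℕ) (s : L), ((σL ^ k) s).1 = x ^ k * s.1 * x' ^ k := by
      intro k
      induction k with
      | zero => intro s; simp
      | succ k ih =>
        intro s
        rw [pow_succ, RingAut.mul_apply, ih, pow_succ x, pow_succ' x']
        show x ^ k * (x * s.1 * x') * x' ^ k = _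
        simp only [mul_assoc]
    have hord : orderOf σL = m := by
      apply Nat.dvd_antisymm
      · apply orderOf_dvd_of_pow_eq_one
        ext1 s
        apply Subtype.ext
        rw [hpowL]
        obtain ⟨_, p, rfl⟩ := s
        show w * (F.ι p.1 + F.ι p.2 * w) * w' = F.ι p.1 + F.ι p.2 * w
        rw [mul_add, hwc, ← mul_assoc w, hwc, add_mul, mul_assoc, hw1, mul_one, mul_assoc (F.ι p.2 * w) w, hw1,
          mul_one]
      · apply orderOf_dvd_of_pow_eq_one
        have e0 := pow_orderOf_eq_one σL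
        set n := orderOf σL
        ext c
        have e := hpowL n ⟨F.ι c, hιL c⟩
        rw [e0, RingAut.one_apply] at e
        rw [RingAut.one_apply]
        apply F.ι.injective
        have hxn : x ^ n * x' ^ n = 1 := by rw [← hcomm.mul_pow, h1, one_pow]
        rw [hx.pow n c, mul_assoc, hxn, mul_one] at e
        exact e.symm
    have hxL : Eig L.subtype σL x := fun s => by
      show x * s.1 = x * s.1 * x' * x
      rw [mul_assoc (x * s.1), h1', mul_one]
    obtain ⟨v0, hv0⟩ : ∃ u : X, u ≠ 0 := by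
      by_contra hcon
      push Not at hcon
      exact hx0 (AddMonoidHom.ext fun u => hcon _)
    obtain ⟨v, l, hv, hl0, hl, -⟩ := exists_eigvec (ι := L.subtype) σL hxL hv0 (μ := ⟨w, hwL⟩)
      (fun e => by
        have : w = 0 := congrArg Subtype.val e
        rw [this, zero_mul] at hw1
        exact zero_ne_one hw1)
      (Subtype.ext (by show x * w * x' = w; rw [hwx, mul_assoc, h1, mul_one]))
      (by rw [hord]; rfl)
    set lb := σL.symm l
    have hlb0 : lb ≠ 0 := (map_ne_zero σL.symm.toRingHom).mpr hl0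
    have hl' : x' v = (L.subtype lb⁻¹) v := by
      have e : v = (L.subtype lb) (x' v) := by
        calc v = (x' * x) v := by rw [h1']; rfl
          _ = (x' * l.1) v := congrArg x' hl
          _ = ((x' * l.1 * x) * x') v := by rw [mul_assoc (x' * l.1), h1, mul_one]
          _ = (L.subtype lb) (x' v) := rfl
      conv_rhs => rw [e]
      show x' v = (L.subtype lb⁻¹ * L.subtype lb) (x' v)
      rw [← map_mul, inv_mul_cancel₀ hlb0, map_one]
      rfl
    let Φ : K × K × K → R := fun p =>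
      F.ι p.1 + (F.ι p.2.1 * x + F.ι (σ⁻¹ p.2.1) * x') + F.ι p.2.2 * (w * x + w' * x')
    let co : K × K × K → L := fun p =>
      ⟨F.ι p.1, hιL _⟩ + (⟨F.ι p.2.1, hιL _⟩ * l + ⟨F.ι (σ⁻¹ p.2.1), hιL _⟩ * lb⁻¹) +
        ⟨F.ι p.2.2, hιL _⟩ * (⟨w, hwL⟩ * l + ⟨w', hw'L⟩ * lb⁻¹)
    have hval : ∀ p, Φ p v = (co p).1 v := by
      intro p
      show F.ι p.1 v + (F.ι p.2.1 (x v) + F.ι (σ⁻¹ p.2.1) (x' v)) + F.ι p.2.2 (w (x v) + w' (x' v)) = _
      rw [hl, hl']
      rfl
    have hsub : ∀ p q, co (p - q) = co p - co q := by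
      intro p q
      have e : ∀ c d : K, (⟨F.ι (c - d), hιL _⟩ : L) = ⟨F.ι c, hιL _⟩ - ⟨F.ι d, hιL _⟩ := fun c d =>
        Subtype.ext (map_sub F.ι c d)
      have e' : ∀ c d : K, σ⁻¹ (c - d) = σ⁻¹ c - σ⁻¹ d := map_sub σ⁻¹
      simp only [co, Prod.fst_sub, Prod.snd_sub, e', e]
      ring
    let g2 : K × K × Bool → L := fun p => co (p.1, p.2.1, if p.2.2 then 1 else 0)
    have hsurj : Function.Surjective (fun p : K × K => (⟨el p, p, rfl⟩ : L)) := by
      rintro ⟨_, p, rfl⟩
      exact ⟨p, rfl⟩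
    have hlt : Fintype.card L < Fintype.card (K × K × Bool) := by
      refine lt_of_le_of_lt (Fintype.card_le_of_surjective _ hsurj) ?_
      have := Fintype.card_pos (α := K)
      simp only [Fintype.card_prod, Fintype.card_bool]
      nlinarith
    obtain ⟨p, q, hpq, hgpq⟩ := Fintype.exists_ne_map_eq_of_card_lt g2 hlt
    set P : K × K × K := (p.1, p.2.1, if p.2.2 then 1 else 0) with hP
    set Q : K × K × K := (q.1, q.2.1, if q.2.2 then 1 else 0) with hQ
    have hPQ : P - Q ≠ 0 := by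
      rw [sub_ne_zero]
      intro e
      apply hpq
      simp only [hP, hQ, Prod.mk.injEq] at e
      obtain ⟨e1, e2, e3⟩ := e
      refine Prod.ext e1 (Prod.ext e2 ?_)
      cases hp' : p.2.2 <;> cases hq' : q.2.2 <;> simp_all
    have hΦS : Φ (P - Q) ∈ S := by
      refine S.add_mem (S.add_mem (F.mem _) (hmem _)) ?_
      have ht : w * x + w' * x' ∈ S := by
        rw [hw, hw', ← pow_succ, ← pow_succ]
        exact (hT m).2
      have key : ∀ δ : Bool, F.ι (if δ then 1 else 0) * (w * x + w' * x') ∈ S := by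
        intro δ
        cases δ
        · simp
        · simpa using ht
      rw [show (P - Q).2.2 = (if p.2.2 then 1 else 0) - (if q.2.2 then 1 else 0) from rfl, map_sub, sub_mul]
      exact S.sub_mem (key _) (key _)
    have hΦ0 : Φ (P - Q) = 0 := by
      by_contra hne
      apply hv (h.apply_eq_zero hΦS hne ?_)
      have e : co P = co Q := hgpq
      rw [hval, hsub, e, sub_self]
      rfl
    set D := P - Q
    apply hPQ
    have n1 : ((1 : K ≃+* K) F.a = σ F.a) → False := fun e => hσ (aut_ext F.gen e).symm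
    have n2 : (σ⁻¹ F.a = σ F.a) → False := fun e => h2 (by
      rw [sq]
      have := aut_ext F.gen e
      conv_lhs => arg 1; rw [← this]
      exact inv_mul_cancel σ)
    have ew : Eig F.ι σ (w * x) := by
      intro c; rw [mul_assoc, hx, ← mul_assoc, hwc, mul_assoc]
    have ew' : Eig F.ι σ⁻¹ (w' * x') := by
      intro c; rw [mul_assoc, hx', ← mul_assoc, hwc', mul_assoc]
    have ec := congrArg (comp F.ι F.a (σ F.a)) hΦ0
    simp only [Φ, mul_add, map_add, map_zero] at ec
    rw [comp_eig F.ι F.a (τ := 1) (fun c => by rw [RingAut.one_apply, ← map_mul, ← map_mul, mul_comm]),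
      comp_eig F.ι F.a (hx.smul _), comp_eig F.ι F.a (hx'.smul _), comp_eig F.ι F.a (ew.smul _),
      comp_eig F.ι F.a (ew'.smul _)] at ec
    simp only [if_neg n1, if_pos, if_neg n2, map_zero, map_one, zero_mul, one_mul, zero_add, add_zero] at ec
    have ec2 : F.ι D.2.1 + F.ι D.2.2 * w = 0 := by
      have := congrArg (· * x') ec
      simpa [add_mul, mul_assoc, h1] using this
    have hD3 : D.2.2 = 0 := by
      by_contra hne
      apply hroot (D.2.1 / D.2.2)
      have e : w = F.ι (D.2.1 / D.2.2) := by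
        have e1 : F.ι D.2.2 * w = F.ι D.2.1 := by rw [eq_neg_of_add_eq_zero_right ec2, h.neg_eq]
        calc w = F.ι (D.2.2⁻¹ * D.2.2) * w := by rw [inv_mul_cancel₀ hne, map_one, one_mul]
          _ = _ := by rw [map_mul, mul_assoc, e1, ← map_mul, div_eq_inv_mul]
      have e2 := hw2
      rw [e, ← map_mul, ← map_mul, ← map_one F.ι, ← map_add] at e2
      have e3 := F.ι.injective e2
      linear_combination e3 + two_eq_zero h F (ω * (D.2.1 / D.2.2) + 1)
    have hD2 : D.2.1 = 0 := by
      rw [hD3, map_zero, zero_mul, add_zero] at ec2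
      exact F.ι.injective (by rw [ec2, map_zero])
    have hD1 : D.1 = 0 := by
      simp only [Φ, hD2, hD3, map_zero, zero_mul, add_zero] at hΦ0
      exact F.ι.injective (by rw [hΦ0, map_zero])
    exact Prod.ext hD1 (Prod.ext hD2 hD3)

/-- There are no elements of the spread set outside a maximal field. -/
theorem mem_range (h : Spread S) (F : MaxField S K) {b : R} (hb : b ∈ S) : ∃ c, F.ι c = b := by
  by_contra hcon
  push Not at hcon
  obtain ⟨σ, x, x', hσ, hx0, hx, hx', hmem⟩ := F.exists_pair h hb hcon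
  have hodd := F.orderOf_odd h hσ hx0 hx hx' hmem
  obtain ⟨h2, -⟩ := aut_pow_ne hσ hodd
  obtain ⟨υ, υ', hu, hu', hυ⟩ := F.exists_scalar_products h hσ hodd hx0 hx hx' hmem
  haveI : Nontrivial R := ⟨x, 0, hx0⟩
  have hb1 : x + x' ∈ S := by simpa using hmem 1
  by_cases hυ0 : υ = 0
  · have hυ'0 : υ' = 0 := (map_eq_zero σ.toRingHom).mp (hυ.trans hυ0)
    rw [hυ0, map_zero] at hu
    rw [hυ'0, map_zero] at hu'
    set m := orderOf σ with hm
    have hpow : ∀ k : ℕ, (x + x') ^ (k + 1) = x ^ (k + 1) + x' ^ (k + 1) := by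
      intro k
      induction k with
      | zero => simp
      | succ k ih =>
        have e1 : x ^ (k + 1) * x' = 0 := by rw [pow_succ, mul_assoc, hu, mul_zero]
        have e2 : x' ^ (k + 1) * x = 0 := by rw [pow_succ, mul_assoc, hu', mul_zero]
        rw [pow_succ, ih, add_mul, mul_add, mul_add, e1, e2, add_zero, zero_add, ← pow_succ, ← pow_succ]
    obtain ⟨n, hn⟩ := hodd
    have hbm : (x + x') ^ m = x ^ m + x' ^ m := by rw [show m = 2 * n + 1 from hn, hpow]
    have hf : x ^ m + x' ^ m ∈ S := hbm ▸ h.pow_mem hb1 m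
    obtain ⟨f, hf0⟩ := F.maximal _ hf fun c => by
      have e1 := hx.pow m c
      have e2 := hx'.pow m c
      rw [hm, pow_orderOf_eq_one, RingAut.one_apply] at e1
      rw [inv_pow, hm, pow_orderOf_eq_one, inv_one, RingAut.one_apply] at e2
      rw [add_mul, mul_add, hm, e1, e2]
    obtain ⟨u0, hu0⟩ : ∃ u, x u ≠ 0 := by
      by_contra hcon2
      push Not at hcon2
      exact hx0 (AddMonoidHom.ext hcon2)
    have hb0 : x + x' ≠ 0 := fun e => by
      have hxeq : x' = x := by rw [eq_neg_of_add_eq_zero_right e, h.neg_eq]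
      apply h2
      rw [sq]
      have e1 : F.ι (σ F.a) * x = F.ι (σ⁻¹ F.a) * x := by
        have := hx' F.a
        rw [hxeq] at this
        exact (hx F.a).symm.trans this
      nth_rewrite 2 [aut_ext F.gen (eq_of_ι_mul hx0 e1)]
      exact mul_inv_cancel σ
    have hfne : f ≠ 0 := by
      intro e
      rw [e, map_zero] at hf0
      obtain ⟨c, -, hc, -⟩ := h.inv _ hb1 hb0
      have : ∀ k : ℕ, (x + x') ^ k ≠ 0 := by
        intro k
        induction k with
        | zero => simp
        | succ k ih =>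
          intro hz
          apply ih
          calc (x + x') ^ k = (x + x') ^ k * ((x + x') * c) := by rw [hc, mul_one]
            _ = 0 := by rw [← mul_assoc, ← pow_succ, hz, zero_mul]
      exact this m (hbm.trans hf0.symm)
    have hxm : x * F.ι f = F.ι f * x := by
      rw [hf0, mul_add, add_mul, ← pow_succ', ← pow_succ, show m = 2 * n + 1 from hn]
      have e1 : x * x' ^ (2 * n + 1) = 0 := by rw [pow_succ', ← mul_assoc, hu, zero_mul]
      have e2 : x' ^ (2 * n + 1) * x = 0 := by rw [pow_succ, mul_assoc, hu', mul_zero]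
      rw [e1, e2]
    have hσf : σ f = f := eq_of_ι_mul hx0 ((hx f).symm.trans hxm)
    have hpowv : (x ^ orderOf σ) (x u0) = F.ι f (x u0) := by
      rw [← hm, hf0]
      show _ = (x ^ m) (x u0) + (x' ^ m) (x u0)
      have : (x' ^ m * x) u0 = 0 := by
        rw [show m = 2 * n + 1 from hn, pow_succ, mul_assoc, hu', mul_zero]; rfl
      have e3 : (x' ^ m) (x u0) = 0 := this
      rw [e3, add_zero]
    obtain ⟨v, l, hv, -, hl, hU⟩ := exists_eigvec σ hx hu0 hfne hσf hpowv
    have hvr : v ∈ AddMonoidHom.range (x : X →+ X) := by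
      apply hU
      · exact ⟨u0, rfl⟩
      · rintro c _ ⟨t, rfl⟩
        refine ⟨F.ι (σ⁻¹ c) t, ?_⟩
        have := DFunLike.congr_fun (hx (σ⁻¹ c)) t
        rw [show σ (σ⁻¹ c) = c from RingEquiv.apply_symm_apply σ c] at this
        exact this
      · rintro _ ⟨t, rfl⟩
        exact ⟨x t, rfl⟩
    obtain ⟨t, rfl⟩ := hvr
    refine F.no_kill h hσ h2 hx0 hx hx' hmem hv hl (l' := 0) ?_
    rw [map_zero]
    exact DFunLike.congr_fun hu' t
  · obtain ⟨r, hr⟩ := FiniteField.isSquare_of_char_two (F := K) (by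
      have : (2 : K) = 0 := by rw [← one_add_one_eq_two]; exact two_eq_zero h F 1
      exact CharP.ringChar_of_prime_eq_zero Nat.prime_two (by exact_mod_cast this)) υ⁻¹
    have hr0 : r ≠ 0 := fun e => inv_ne_zero hυ0 (by rw [hr, e, mul_zero])
    have hy0 : F.ι r * x ≠ 0 := fun e => hx0 (eq_zero_of_ι_mul hr0 e)
    refine F.false_of_inverse h hσ hodd hy0 (hx.smul r) (hx'.smul (σ⁻¹ r)) (fun g => ?_) ?_ ?_
    · have := hmem (g * r)
      rw [map_mul, map_mul, map_mul, mul_assoc, mul_assoc] at this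
      exact this
    · rw [mul_assoc, ← mul_assoc x, hx, show σ (σ⁻¹ r) = r from RingEquiv.apply_symm_apply σ r, mul_assoc,
        hu, ← map_mul, ← map_mul, ← mul_assoc, ← hr, inv_mul_cancel₀ hυ0, map_one]
    · have hυ' : υ' = σ⁻¹ υ := by rw [← hυ]; exact (RingEquiv.symm_apply_apply σ υ').symm
      rw [mul_assoc, ← mul_assoc x', hx', mul_assoc, hu', ← map_mul, ← map_mul, hυ', ← map_mul, ← map_mul,
        ← mul_assoc, ← hr, inv_mul_cancel₀ hυ0, map_one, map_one]

end MaxField

/-- A spread set closed under inversion is commutative. -/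
theorem Spread.commute (h : Spread S) {a b : R} (ha : a ∈ S) (hb : b ∈ S) : Commute a b := by
  classical
  haveI : Finite R := Finite.of_injective (fun f : R => (f : X → X)) DFunLike.coe_injective
  by_cases hn : (1 : R) = 0
  · have : ∀ r : R, r = 0 := fun r => by rw [← mul_one r, hn, mul_zero]
    show a * b = b * a
    rw [this (a * b), this (b * a)]
  haveI : Nontrivial R := ⟨⟨1, 0, hn⟩⟩
  obtain ⟨T, ⟨hTS, haT, hTc⟩, hmax⟩ := (Set.toFinite {T : Set R | T ⊆ (S : Set R) ∧ a ∈ T ∧
      ∀ p ∈ T, ∀ q ∈ T, Commute p q}).exists_maximal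
    ⟨{a}, Set.singleton_subset_iff.mpr ha, rfl, by rintro p rfl q rfl; exact Commute.refl _⟩
  have hadd : ∀ s ∈ S, (∀ q ∈ T, Commute s q) → s ∈ T := by
    intro s hs hc
    have : insert s T ≤ T := hmax ⟨Set.insert_subset hs hTS, Set.mem_insert_of_mem _ haT, by
      rintro p (rfl | hp) q (rfl | hq)
      · exact Commute.refl _
      · exact hc q hq
      · exact (hc p hp).symm
      · exact hTc p hp q hq⟩ (Set.subset_insert s T)
    exact this (Set.mem_insert s T)
  let T' : Subring R :=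
    { carrier := T
      mul_mem' := fun {p q} hp hq => hadd _ (h.mul_mem_of_commute (hTS hp) (hTS hq) (hTc p hp q hq))
        fun r hr => (hTc p hp r hr).mul_left (hTc q hq r hr)
      one_mem' := hadd _ h.one fun q _ => Commute.one_left q
      add_mem' := fun {p q} hp hq => hadd _ (S.add_mem (hTS hp) (hTS hq))
        fun r hr => (hTc p hp r hr).add_left (hTc q hq r hr)
      zero_mem' := hadd _ S.zero_mem fun q _ => Commute.zero_left q
      neg_mem' := fun {p} hp => hadd _ (S.neg_mem (hTS hp)) fun r hr => (hTc p hp r hr).neg_left }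
  letI : CommRing T' :=
    { (inferInstance : Ring T') with mul_comm := fun p q => Subtype.ext (hTc p.1 p.2 q.1 q.2).eq }
  haveI : Nontrivial T' := ⟨⟨1, 0, fun e => hn (congrArg Subtype.val e)⟩⟩
  haveI : NoZeroDivisors T' := ⟨fun {p q} e => by
    by_cases hp : p = 0
    · exact Or.inl hp
    right
    obtain ⟨c, -, -, hc⟩ := h.inv _ (hTS p.2) (fun e0 => hp (Subtype.ext e0))
    apply Subtype.ext
    have e' : p.1 * q.1 = 0 := congrArg Subtype.val e
    calc q.1 = c * (p.1 * q.1) := by rw [← mul_assoc, hc, one_mul]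
      _ = 0 := by rw [e', mul_zero]⟩
  haveI : IsDomain T' := NoZeroDivisors.to_isDomain T'
  letI : Fintype T' := Fintype.ofFinite _
  letI : Field T' := Fintype.fieldOfDomain T'
  obtain ⟨g, hg⟩ := IsCyclic.exists_generator (α := T'ˣ)
  let F : MaxField S T' :=
    { ι := T'.subtype
      mem := fun c => hTS c.2
      maximal := fun s hs hc => ⟨⟨s, hadd s hs fun q hq => hc ⟨q, hq⟩⟩, rfl⟩
      a := (g : T')
      gen := fun c hc => by
        obtain ⟨k, hk⟩ := (isOfFinOrder_of_finite g).mem_powers_iff_mem_zpowers.mpr (hg (Units.mk0 c hc))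
        exact ⟨k, by have := congrArg Units.val hk; rwa [Units.val_pow_eq_pow_val, Units.val_mk0] at this⟩ }
  obtain ⟨c, rfl⟩ := F.mem_range h hb
  exact hTc a haT c.1 c.2

end Cfsg.Agent.Lib.TIRoot
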