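import Cfsg.Agent.Lib.TIRoot.Partner
import Cfsg.Agent.Lib.TIRoot.JordanMain
import Cfsg.Agent.Lib.RootSub.SL2Pair

/-!
The line spanned by a symmetric pair of root groups: transitivity and the action of the two radicals as `SL₂`.
-/

set_option autoImplicit false

namespace Cfsg.Agent.Lib.TIRoot

open scoped IsMulCommutative

variable {G : Type*} [Group G] [Finite G] {V Q : Subgroup G}

omit [Finite G] in
theorem mem_normalizer_cj {V : Subgroup G} {g m : G} :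
    m ∈ Subgroup.normalizer (cj g V : Set G) ↔ g⁻¹ * m * g ∈ Subgroup.normalizer (V : Set G) := by
  rw [← cj_eq_self_iff, ← cj_eq_self_iff, cj_cj]
  constructor
  · intro h
    rw [mul_assoc, ← cj_cj g⁻¹, h, cj_cj, inv_mul_cancel, cj_one]
  · intro h
    have := congrArg (cj g) h
    rwa [cj_cj, ← mul_assoc, ← mul_assoc, mul_inv_cancel, one_mul] at this

namespace Root

variable (R : Root V Q)

include R

omit [Finite G] in
theorem conjugate (g : G) : Root (cj g V) (cj g Q) := by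
  refine ⟨fun v hv => R.sq_conj ⟨g, rfl⟩ hv, ?_, cj_mono R.vle, ?_, R.q2.map _, ?_, ?_, ?_, ?_⟩
  · rintro _ ⟨q, hq, rfl⟩
    rw [mem_normalizer_cj]
    simpa [mul_assoc] using R.qle hq
  · rintro m hm _ ⟨q, hq, rfl⟩
    rw [mem_normalizer_cj] at hm
    have := R.qnorm _ hm q hq
    rw [mem_cj]
    simpa [mul_assoc] using this
  · intro N hN hNn hN2
    have hle : cj g⁻¹ N ≤ Q := by
      refine R.qmax _ ?_ ?_ (hN2.map _)
      · rintro _ ⟨a, ha, rfl⟩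
        simpa [mul_assoc] using mem_normalizer_cj.mp (hN ha)
      · rintro m hm _ ⟨a, ha, rfl⟩
        have hm' : g * m * g⁻¹ ∈ Subgroup.normalizer (cj g V : Set G) :=
          mem_normalizer_cj.mpr (by simpa [mul_assoc] using hm)
        have := hNn _ hm' a ha
        rw [mem_cj]
        simpa [mul_assoc] using this
    intro a ha
    rw [mem_cj]
    simpa using hle (conj_mem_cj (x := g⁻¹) ha)
  · intro c hc hcy
    rw [mem_normalizer_cj] at hc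
    rw [mem_cj]
    refine R.qcent _ hc fun y hy => ?_
    have h1 := hcy (g * y * g⁻¹) (conj_mem_cj hy)
    calc g⁻¹ * c * g * y = g⁻¹ * (c * (g * y * g⁻¹)) * g := by group
      _ = g⁻¹ * ((g * y * g⁻¹) * c) * g := by rw [h1]
      _ = _ := by group
  · intro A hVA hAN hAc hAn
    have h := R.maxab (cj g⁻¹ A) ?_ ?_ ?_ ?_
    · rw [cj_eq_iff, inv_inv] at h; exact h
    · have := cj_mono (x := g⁻¹) hVA
      rwa [cj_cj, inv_mul_cancel, cj_one] at this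
    · rintro _ ⟨a, ha, rfl⟩
      simpa [mul_assoc] using mem_normalizer_cj.mp (hAN ha)
    · rintro _ ⟨a, ha, rfl⟩ _ ⟨b, hb, rfl⟩
      simp only [← map_mul, hAc a ha b hb]
    · rintro m hm _ ⟨a, ha, rfl⟩
      have hm' : g * m * g⁻¹ ∈ Subgroup.normalizer (cj g V : Set G) :=
        mem_normalizer_cj.mpr (by simpa [mul_assoc] using hm)
      have := hAn _ hm' a ha
      rw [mem_cj]
      simpa [mul_assoc] using this
  · intro x
    rcases R.ti (g⁻¹ * x * g) with h | h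
    · left
      have := congrArg (cj g) h
      rw [cj_cj] at this
      rw [cj_cj]
      simpa [mul_assoc] using this
    · right
      have := congrArg (cj g) h
      rw [cj_inf, cj_cj] at this
      rw [cj_cj]
      simpa [mul_assoc, cj, Subgroup.map_bot] using this

theorem le_cj_radical {g : G} (hU : Partner V Q (cj g V)) : V ≤ cj g Q := by
  obtain ⟨k, hkW, hkV⟩ := R.exists_move hU
  have hne : cj k⁻¹ V ≠ V := fun e => hU.2.1 (by
    have h2 := (cj_eq_iff.mp e)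
    rw [inv_inv] at h2
    rw [← hkV]; exact h2.symm)
  have hle : cj k⁻¹ V ≤ Q := by
    intro z hz
    have h1 : z ∈ cj g V ⊔ V := by
      have h2 : cj k⁻¹ (cj g V ⊔ V) = cj g V ⊔ V := by rw [cj_eq_iff, inv_inv]; exact hkW.symm
      exact h2.le (cj_mono le_sup_right hz)
    exact (sup_le hU.2.2 R.vle : cj g V ⊔ V ≤ Q) h1
  have h1 := cj_mono (x := k) hle
  rw [cj_cj, mul_inv_cancel, cj_one] at h1
  refine h1.trans (le_of_eq ?_)
  have hm : g⁻¹ * k ∈ Subgroup.normalizer (V : Set G) := by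
    rw [← cj_eq_self_iff, ← cj_cj, hkV, cj_cj, inv_mul_cancel, cj_one]
  rw [show k = g * (g⁻¹ * k) by group, ← cj_cj]
  congr 1
  apply Subgroup.eq_of_le_of_card_ge
  · rintro _ ⟨q, hq, rfl⟩
    exact R.qnorm _ hm q hq
  · exact (card_cj _ _).ge

variable {g : G} (hU : Partner V Q (cj g V))

include hU

omit [Finite G] in
theorem partner_symm (hle : V ≤ cj g Q) : Partner (cj g V) (cj g Q) V :=
  ⟨⟨g⁻¹, by rw [cj_cj, inv_mul_cancel, cj_one]⟩, fun e => hU.2.1 e.symm, hle⟩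

theorem transitive {v1 v2 : G} (h1 : v1 ∈ V) (h1' : v1 ≠ 1) (h2 : v2 ∈ V) (h2' : v2 ≠ 1) :
    ∃ m ∈ Subgroup.normalizer (V : Set G), m * v1 * m⁻¹ = v2 := by
  obtain ⟨w0, hw0, hw01⟩ := R.mem_conjV hU
  have R' := R.conjugate g
  have hU' := R.partner_symm hU (R.le_cj_radical hU)
  obtain ⟨X, hX, hnc⟩ := R.exists_noncommuting hU
  obtain ⟨X', hX', hnc'⟩ := R'.exists_noncommuting hU'
  have key : ∀ v ∈ V, v ≠ 1 → ∃ h : G, h * v * h⁻¹ = w0 := by
    intro v hv hv1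
    obtain ⟨x, -, hx⟩ := (R'.decompose hU' hX' hnc' hv hv1).1 w0 hw0
    obtain ⟨y, -, hy⟩ := (R.decompose hU hX hnc hw0 hw01).1 v hv
    refine ⟨y⁻¹ * x, ?_⟩
    calc y⁻¹ * x * v * (y⁻¹ * x)⁻¹ = y⁻¹ * (x * v * x⁻¹) * y := by group
      _ = y⁻¹ * (v * w0) * y := by rw [hx, ← R.commute_partner hU hv hw0]
      _ = w0 := by rw [← hy]; group
  obtain ⟨a, ha⟩ := key v1 h1 h1'
  obtain ⟨b, hb⟩ := key v2 h2 h2'
  have e : b⁻¹ * a * v1 * (b⁻¹ * a)⁻¹ = v2 := by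
    calc b⁻¹ * a * v1 * (b⁻¹ * a)⁻¹ = b⁻¹ * (a * v1 * a⁻¹) * b := by group
      _ = b⁻¹ * (b * v2 * b⁻¹) * b := by rw [ha, hb]
      _ = v2 := by group
  refine ⟨b⁻¹ * a, cj_eq_self_iff.mp ?_, e⟩
  exact R.ti_eq ⟨_, rfl⟩ ⟨1, (cj_one V).symm⟩ (e ▸ conj_mem_cj h1) h2 h2'

theorem Ph_eq : Ph V Q = Q := by
  refine le_antisymm inf_le_left fun q hq => mem_Ph.mpr ⟨hq, ?_⟩
  haveI := Fact.mk Nat.prime_two
  haveI := R.q2.isNilpotent
  haveI : (V.subgroupOf Q).Normal := ⟨fun a ha b => by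
    rw [Subgroup.mem_subgroupOf] at ha ⊢
    exact R.conj_mem_V (R.qle b.2) ha⟩
  obtain ⟨u, hu, hu1⟩ := R.mem_conjV hU
  have hne : V.subgroupOf Q ≠ ⊥ := by
    intro e
    apply hu1
    have hv : g⁻¹ * u * g ∈ V := mem_cj.mp hu
    have : (⟨g⁻¹ * u * g, R.vle hv⟩ : Q) ∈ V.subgroupOf Q := hv
    rw [e, Subgroup.mem_bot] at this
    have h1 : g⁻¹ * u * g = 1 := congrArg Subtype.val this
    calc u = g * (g⁻¹ * u * g) * g⁻¹ := by group
      _ = 1 := by rw [h1]; group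
  obtain ⟨⟨z, hz⟩, hz1⟩ :=
    (Subgroup.ne_bot_iff_exists_ne_one).mp (Cfsg.Agent.Lib.Solvable.inf_center_ne_bot hne)
  have hz1' : (z : G) ≠ 1 := fun e => hz1 (Subtype.ext (Subtype.ext e))
  intro v hv
  by_cases hv1 : v = 1
  · subst hv1; simp
  obtain ⟨m, hm, rfl⟩ := R.transitive hU (v1 := (z : G)) hz.1 hz1' hv hv1
  have hq' := R.qnorm m⁻¹ (inv_mem hm) q hq
  rw [inv_inv] at hq'
  have hc : (z : G) * (m⁻¹ * q * m) = (m⁻¹ * q * m) * z :=
    congrArg Subtype.val (Subgroup.mem_center_iff.mp hz.2 ⟨_, hq'⟩).symm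
  calc m * z * m⁻¹ * q = m * ((z : G) * (m⁻¹ * q * m)) * m⁻¹ := by group
    _ = m * ((m⁻¹ * q * m) * z) * m⁻¹ := by rw [hc]
    _ = _ := by group

end Root

/-- A symmetric pair of root groups with radicals centralising them. -/
structure Pair (V Q U Q' : Subgroup G) : Prop where
  R : Root V Q
  R' : Root U Q'
  hU : Partner V Q U
  hU' : Partner U Q' V
  hP : Ph V Q = Q
  hP' : Ph U Q' = Q'
  rad : ∀ h : G, cj h U = V → cj h Q' = Q

namespace Pair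

variable {U Q' : Subgroup G} [IsMulCommutative ↥V] [IsMulCommutative ↥U] (P : Pair V Q U Q')

include P

theorem commUV {u v : G} (hu : u ∈ U) (hv : v ∈ V) : u * v = v * u := (P.R.commute_partner P.hU hv hu).symm

theorem commQV {y v : G} (hy : y ∈ Q) (hv : v ∈ V) : v * y = y * v := (mem_Ph.mp (P.hP.ge hy)).2 v hv

theorem commQ'U {p u : G} (hp : p ∈ Q') (hu : u ∈ U) : u * p = p * u := (mem_Ph.mp (P.hP'.ge hp)).2 u hu

theorem fac_unique {a a' b b' : G} (ha : a ∈ U) (ha' : a' ∈ U) (hb : b ∈ V) (hb' : b' ∈ V)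
    (h : a * b = a' * b') : a = a' ∧ b = b' := by
  have e : a'⁻¹ * a = b' * b⁻¹ := by
    calc a'⁻¹ * a = a'⁻¹ * (a * b) * b⁻¹ := by group
      _ = b' * b⁻¹ := by rw [h]; group
  have h1 : a'⁻¹ * a = 1 :=
    P.R.inf_V P.hU (e ▸ mul_mem hb' (inv_mem hb)) (mul_mem (inv_mem ha') ha)
  have h2 : a = a' := (inv_mul_eq_one.mp h1).symm
  subst h2
  exact ⟨rfl, mul_left_cancel h⟩

/-- The commutator map of an element of `Q` on the partner. -/
noncomputable def th (y : Q) : Additive U →+ Additive V :=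
  AddMonoidHom.mk'
    (fun u => Additive.ofMul ⟨_, P.R.comm_mem (P.hP.ge y.2) (P.R.partner_le P.hU (Additive.toMul u).2)⟩)
    (fun a b => by
      obtain ⟨a, rfl⟩ := Additive.ofMul.surjective a
      obtain ⟨b, rfl⟩ := Additive.ofMul.surjective b
      apply Additive.toMul.injective
      apply Subtype.ext
      show y.1 * (a.1 * b.1) * y.1⁻¹ * (a.1 * b.1)⁻¹ =
        (y.1 * a.1 * y.1⁻¹ * a.1⁻¹) * (y.1 * b.1 * y.1⁻¹ * b.1⁻¹)
      have hc := P.commUV a.2 (P.R.comm_mem (P.hP.ge y.2) (P.R.partner_le P.hU b.2))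
      calc y.1 * (a.1 * b.1) * y.1⁻¹ * (a.1 * b.1)⁻¹
          = (y.1 * a.1 * y.1⁻¹ * a.1⁻¹) * (a.1 * (y.1 * b.1 * y.1⁻¹ * b.1⁻¹)) * a.1⁻¹ := by group
        _ = (y.1 * a.1 * y.1⁻¹ * a.1⁻¹) * ((y.1 * b.1 * y.1⁻¹ * b.1⁻¹) * a.1) * a.1⁻¹ := by rw [hc]
        _ = _ := by group)

theorem th_coe (y : Q) (u : U) :
    ((Additive.toMul (P.th y (Additive.ofMul u)) : V) : G) = y.1 * u.1 * y.1⁻¹ * u.1⁻¹ := rfl

theorem th_mul (y y' : Q) : P.th (y * y') = P.th y + P.th y' := by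
  apply AddMonoidHom.ext
  intro a
  obtain ⟨a, rfl⟩ := Additive.ofMul.surjective a
  apply Additive.toMul.injective
  apply Subtype.ext
  show y.1 * y'.1 * a.1 * (y.1 * y'.1)⁻¹ * a.1⁻¹ =
    (y.1 * a.1 * y.1⁻¹ * a.1⁻¹) * (y'.1 * a.1 * y'.1⁻¹ * a.1⁻¹)
  have hcV := P.R.comm_mem (P.hP.ge y'.2) (P.R.partner_le P.hU a.2)
  have hc := P.commQV y.2 hcV
  calc y.1 * y'.1 * a.1 * (y.1 * y'.1)⁻¹ * a.1⁻¹
      = y.1 * (y'.1 * a.1 * y'.1⁻¹ * a.1⁻¹) * (a.1 * y.1⁻¹ * a.1⁻¹) := by group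
    _ = (y'.1 * a.1 * y'.1⁻¹ * a.1⁻¹) * (y.1 * a.1 * y.1⁻¹ * a.1⁻¹) := by rw [← hc]; group
    _ = _ := P.R.comm hcV (P.R.comm_mem (P.hP.ge y.2) (P.R.partner_le P.hU a.2))

/-- Symmetry. -/
theorem symm (rad' : ∀ h : G, cj h V = U → cj h Q = Q') : Pair U Q' V Q :=
  ⟨P.R', P.R, P.hU', P.hU, P.hP', P.hP, rad'⟩

theorem rad_symm (h : G) (hh : cj h V = U) : cj h Q = Q' := by
  have := P.rad h⁻¹ (by rw [← hh, cj_cj, inv_mul_cancel, cj_one])
  rw [cj_eq_iff, inv_inv] at this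
  exact this.symm

theorem th_eq_zero_of (y : Q) {u : U} (hu : u ≠ 1) (h : P.th y (Additive.ofMul u) = 0) : P.th y = 0 := by
  have h1 : y.1 * u.1 * y.1⁻¹ * u.1⁻¹ = 1 := congrArg (fun z : Additive V => ((Additive.toMul z : V) : G)) h
  have hc : y.1 * u.1 = u.1 * y.1 := by rwa [mul_inv_eq_one, mul_inv_eq_iff_eq_mul] at h1
  have hall := P.R.commute_all P.hU (P.hP.ge y.2) u.2 (fun e => hu (Subtype.ext e)) hc
  apply AddMonoidHom.ext
  intro a
  obtain ⟨a, rfl⟩ := Additive.ofMul.surjective a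
  apply Additive.toMul.injective
  apply Subtype.ext
  show y.1 * a.1 * y.1⁻¹ * a.1⁻¹ = 1
  rw [hall a.1 a.2, mul_inv_cancel_right, mul_inv_cancel]

theorem th_bijective {y : Q} (hy : P.th y ≠ 0) : Function.Bijective (P.th y) := by
  have hinj : Function.Injective (P.th y) := by
    rw [injective_iff_map_eq_zero]
    intro a ha
    by_contra hne
    obtain ⟨u, rfl⟩ := Additive.ofMul.surjective a
    exact hy (P.th_eq_zero_of y (fun e => hne (by rw [e]; rfl)) ha)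
  haveI := Fintype.ofFinite (Additive U)
  haveI := Fintype.ofFinite (Additive V)
  refine (Fintype.bijective_iff_injective_and_card _).mpr ⟨hinj, ?_⟩
  rw [Fintype.card_eq_nat_card, Fintype.card_eq_nat_card]
  exact P.R.map_V_eq P.hU

theorem exists_th {u : U} (hu : u ≠ 1) (v : V) :
    ∃ y : Q, P.th y (Additive.ofMul u) = Additive.ofMul v := by
  obtain ⟨X, hX, hnc⟩ := P.R.exists_noncommuting P.hU
  obtain ⟨x, hx, hxu⟩ := (P.R.decompose P.hU hX hnc u.2 (fun e => hu (Subtype.ext e))).1 v.1 v.2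
  refine ⟨⟨x, hX.2.2 hx⟩, ?_⟩
  apply Additive.toMul.injective
  apply Subtype.ext
  show x * u.1 * x⁻¹ * u.1⁻¹ = v.1
  rw [hxu, mul_inv_cancel_right]

theorem symm' : Pair U Q' V Q := P.symm P.rad_symm

/-- Each nonzero commutator map has its inverse among those of the opposite radical. -/
theorem exists_inverse {y : Q} (hy : P.th y ≠ 0) :
    ∃ p : Q', ∀ a, P.symm'.th p (P.th y a) = a := by
  have hWP : cj y.1 U ≤ V ⊔ U := by rw [sup_comm]; exact P.R.cj_le_line P.hU (P.hP.ge y.2)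
  obtain ⟨u0, hu0, hu01⟩ := P.R.mem_conjV P.hU
  have hne : cj y.1 U ≠ U := by
    intro e
    apply hy
    refine P.th_eq_zero_of y (u := ⟨u0, hu0⟩) (fun e' => hu01 (congrArg Subtype.val e')) ?_
    apply Additive.toMul.injective
    apply Subtype.ext
    show y.1 * u0 * y.1⁻¹ * u0⁻¹ = 1
    exact P.R.inf_V P.hU (P.R.comm_mem (P.hP.ge y.2) (P.R.partner_le P.hU hu0))
      (mul_mem (e.le (conj_mem_cj hu0)) (inv_mem hu0))
  obtain ⟨b, hb⟩ := P.hU'.1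
  obtain ⟨a, ha⟩ := P.hU.1
  obtain ⟨p, hp, hC⟩ := P.R'.line_conj P.hU' (C := cj y.1 U)
    ⟨y.1, rfl⟩ hWP hne
  refine ⟨⟨p, P.hP'.le hp⟩, fun c => ?_⟩
  obtain ⟨u, rfl⟩ := Additive.ofMul.surjective c
  have hmem : y.1 * u.1 * y.1⁻¹ ∈ cj p V := hC.le (conj_mem_cj u.2)
  obtain ⟨v, hv, hveq⟩ := hmem
  have hveq' : p * v * p⁻¹ = y.1 * u.1 * y.1⁻¹ := hveq
  have hd : p * v * p⁻¹ * v⁻¹ ∈ U := P.R'.comm_mem hp (P.R'.partner_le P.hU' hv)
  have hcV := P.R.comm_mem (P.hP.ge y.2) (P.R.partner_le P.hU u.2)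
  obtain ⟨h1, h2⟩ := P.fac_unique hd u.2 hv hcV (by
    rw [inv_mul_cancel_right, P.commUV u.2 hcV, inv_mul_cancel_right, hveq'])
  apply Additive.toMul.injective
  apply Subtype.ext
  show p * (y.1 * u.1 * y.1⁻¹ * u.1⁻¹) * p⁻¹ * (y.1 * u.1 * y.1⁻¹ * u.1⁻¹)⁻¹ = u.1
  rw [← h2]
  exact h1

/-- The composite of elements realising mutually inverse maps exchanges the root groups. -/
theorem swap {y0 : Q} {p0 : Q'} (hinv : ∀ a, P.symm'.th p0 (P.th y0 a) = a) (u : U) :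
    (y0.1 * p0.1 * y0.1) * u.1 * (y0.1 * p0.1 * y0.1)⁻¹ = (Additive.toMul (P.th y0 (Additive.ofMul u))).1 ∧
      (y0.1 * p0.1 * y0.1) * (Additive.toMul (P.th y0 (Additive.ofMul u))).1 * (y0.1 * p0.1 * y0.1)⁻¹ = u.1 := by
  set a := (Additive.toMul (P.th y0 (Additive.ofMul u))).1 with ha
  have haV : a ∈ V := (Additive.toMul (P.th y0 (Additive.ofMul u))).2
  have hd : y0.1 * u.1 * y0.1⁻¹ * u.1⁻¹ = a := rfl
  have hp : p0.1 * a * p0.1⁻¹ * a⁻¹ = u.1 := congrArg (fun z : Additive U => ((Additive.toMul z : U) : G)) (hinv (Additive.ofMul u))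
  have hyu : y0.1 * u.1 * y0.1⁻¹ = a * u.1 := mul_inv_eq_iff_eq_mul.mp hd
  have hya : y0.1 * a * y0.1⁻¹ = a := by rw [← P.commQV y0.2 haV, mul_inv_cancel_right]
  have hpa : p0.1 * a * p0.1⁻¹ = u.1 * a := mul_inv_eq_iff_eq_mul.mp hp
  have hpu : p0.1 * u.1 * p0.1⁻¹ = u.1 := by rw [← P.commQ'U p0.2 u.2, mul_inv_cancel_right]
  have hu2 : u.1 * u.1 = 1 := P.R.sq_conj P.hU.1 u.2
  constructor
  · calc (y0.1 * p0.1 * y0.1) * u.1 * (y0.1 * p0.1 * y0.1)⁻¹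
        = y0.1 * (p0.1 * (y0.1 * u.1 * y0.1⁻¹) * p0.1⁻¹) * y0.1⁻¹ := by group
      _ = y0.1 * ((p0.1 * a * p0.1⁻¹) * (p0.1 * u.1 * p0.1⁻¹)) * y0.1⁻¹ := by rw [hyu]; group
      _ = y0.1 * (u.1 * u.1 * a) * y0.1⁻¹ := by
        rw [hpa, hpu, show u.1 * a * u.1 = u.1 * u.1 * a by rw [mul_assoc, ← P.commUV u.2 haV, ← mul_assoc]]
      _ = a := by rw [hu2, one_mul, hya]
  · calc (y0.1 * p0.1 * y0.1) * a * (y0.1 * p0.1 * y0.1)⁻¹
        = y0.1 * (p0.1 * (y0.1 * a * y0.1⁻¹) * p0.1⁻¹) * y0.1⁻¹ := by group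
      _ = y0.1 * (u.1 * a) * y0.1⁻¹ := by rw [hya, hpa]
      _ = (y0.1 * u.1 * y0.1⁻¹) * (y0.1 * a * y0.1⁻¹) := by group
      _ = u.1 := by
        rw [hyu, hya, mul_assoc, P.commUV u.2 haV, ← mul_assoc, P.R.sq a haV, one_mul]

/-- Conjugation by the exchanging element transports the maps of one radical to the other. -/
theorem exists_transport {y0 : Q} {p0 : Q'} (hne : P.th y0 ≠ 0) (hinv : ∀ a, P.symm'.th p0 (P.th y0 a) = a)
    (p : Q') : ∃ q : Q, ∀ a, P.th q a = P.th y0 (P.symm'.th p (P.th y0 a)) := by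
  set h := y0.1 * p0.1 * y0.1 with hh
  have hsw := P.swap hinv
  have hUV : cj h U = V := by
    apply Subgroup.eq_of_le_of_card_ge
    · rintro _ ⟨u, hu, rfl⟩
      show h * u * h⁻¹ ∈ V
      rw [(hsw ⟨u, hu⟩).1]
      exact (Additive.toMul (P.th y0 (Additive.ofMul ⟨u, hu⟩))).2
    · rw [card_cj]
      exact (P.R.map_V_eq P.hU).ge
  refine ⟨⟨h * p.1 * h⁻¹, (P.rad h hUV).le (conj_mem_cj p.2)⟩, fun c => ?_⟩
  obtain ⟨u, rfl⟩ := Additive.ofMul.surjective c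
  apply Additive.toMul.injective
  apply Subtype.ext
  set a := (Additive.toMul (P.th y0 (Additive.ofMul u))) with ha
  set t := Additive.toMul (P.symm'.th p (Additive.ofMul a)) with ht
  show (h * p.1 * h⁻¹) * u.1 * (h * p.1 * h⁻¹)⁻¹ * u.1⁻¹ = (Additive.toMul (P.th y0 (Additive.ofMul t))).1
  have h1 : p.1 * a.1 * p.1⁻¹ = t.1 * a.1 :=
    mul_inv_eq_iff_eq_mul.mp (rfl : p.1 * a.1 * p.1⁻¹ * a.1⁻¹ = t.1)
  have h2 : h⁻¹ * u.1 * h = a.1 := by
    calc h⁻¹ * u.1 * h = h⁻¹ * (h * a.1 * h⁻¹) * h := by rw [(hsw u).2]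
      _ = a.1 := by group
  calc (h * p.1 * h⁻¹) * u.1 * (h * p.1 * h⁻¹)⁻¹ * u.1⁻¹
      = h * (p.1 * (h⁻¹ * u.1 * h) * p.1⁻¹) * h⁻¹ * u.1⁻¹ := by group
    _ = (h * t.1 * h⁻¹) * (h * a.1 * h⁻¹) * u.1⁻¹ := by rw [h2, h1]; group
    _ = _ := by rw [(hsw t).1, (hsw u).2, mul_inv_cancel_right]

end Pair

end Cfsg.Agent.Lib.TIRoot
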