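import Cfsg.Agent.Lib.TIRoot.Root

/-!
Partners of a trivial intersection root group and the line they span with it.
-/

set_option autoImplicit false

namespace Cfsg.Agent.Lib.TIRoot

open scoped commutatorElement Pointwise

variable {G : Type*} [Group G] [Finite G] {V Q : Subgroup G}

namespace Root

variable (R : Root V Q)

include R

omit [Finite G] in
theorem mem_conjV {U : Subgroup G} (hU : Partner V Q U) : ∃ u ∈ U, u ≠ 1 := by
  obtain ⟨⟨x, rfl⟩, hne, -⟩ := hU
  by_contra h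
  push Not at h
  apply hne
  have hV : V = ⊥ := (Subgroup.eq_bot_iff_forall V).mpr fun v hv => by
    have := h _ (conj_mem_cj (x := x) hv)
    rwa [mul_inv_eq_one, mul_eq_left] at this
  rw [hV]
  exact Subgroup.map_bot _

theorem partner_le {U : Subgroup G} (hU : Partner V Q U) : U ≤ Ph V Q :=
  fun _ hu => mem_Ph.mpr ⟨hU.2.2 hu, fun _ hv => R.commute_partner hU hv hu⟩

omit [Finite G] in
theorem inf_V {U : Subgroup G} (hU : Partner V Q U) {z : G} (hzV : z ∈ V) (hzU : z ∈ U) : z = 1 := by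
  by_contra h
  exact hU.2.1 (R.ti_eq hU.1 ⟨1, (cj_one V).symm⟩ hzU hzV h)

omit [Finite G] in
theorem partner_cj {U : Subgroup G} (hU : Partner V Q U) {m : G}
    (hm : m ∈ Subgroup.normalizer (V : Set G)) : Partner V Q (cj m U) := by
  obtain ⟨⟨x, rfl⟩, hne, hle⟩ := hU
  refine ⟨⟨m * x, cj_cj _ _ _⟩, fun e => hne ?_, ?_⟩
  · rw [cj_eq_iff.mp e, cj_eq_self_iff.mpr (Subgroup.inv_mem _ hm)]
  · rintro _ ⟨u, hu, rfl⟩
    exact R.qnorm m hm u (hle hu)

/-- Elements of the normaliser of `V` centralising `Ph V Q` lie in `V`. -/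
theorem mem_of_centralizes {c : G} (hc : c ∈ Subgroup.normalizer (V : Set G))
    (hcy : ∀ y ∈ Ph V Q, c * y = y * c) : c ∈ V := by
  set N := Subgroup.normalizer (V : Set G) ⊓ Subgroup.centralizer (Ph V Q : Set G) with hN
  have hNcy : ∀ h ∈ N, ∀ y ∈ Ph V Q, h * y = y * h := fun h hh y hy =>
    (Subgroup.mem_centralizer_iff.mp hh.2 y hy).symm
  have h2 : IsPGroup 2 N := by
    apply isPGroup_two_of_odd
    intro h hh hodd
    have hh0 := hh
    have hhQ : h ∈ Q := by
      refine R.qcent h hh.1 fun q hq => ?_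
      set d := q⁻¹ * (h * q * h⁻¹) with hd
      have hdQ : d ∈ Q := mul_mem (inv_mem hq) (R.qnorm h hh.1 q hq)
      have hdy : ∀ y ∈ Ph V Q, d * y = y * d := by
        intro y hy
        have h1 : h * (q * y * q⁻¹) = q * y * q⁻¹ * h :=
          hNcy h hh _ (R.conj_mem_Ph (R.qle hq) hy)
        have h3 : h⁻¹ * y * h = y := by rw [mul_assoc, ← hNcy h hh y hy, inv_mul_cancel_left]
        calc d * y = q⁻¹ * (h * q * (h⁻¹ * y * h) * h⁻¹) := by rw [hd]; group
          _ = q⁻¹ * (h * (q * y * q⁻¹) * q * h⁻¹) := by rw [h3]; group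
          _ = y * d := by rw [h1, hd]; group
      have hdV : d ∈ V := by
        refine R.mem_of_central (mem_Ph.mpr ⟨hdQ, fun v hv => (hdy v (R.V_le_Ph hv)).symm⟩) hdy
      have hdh : h * d = d * h := hNcy h hh d (R.V_le_Ph hdV)
      have hpow : ∀ n : ℕ, q⁻¹ * h ^ n * q = d ^ n * h ^ n := by
        intro n
        induction n with
        | zero => simp
        | succ n ih =>
          have e : q⁻¹ * h * q = d * h := by rw [hd]; group
          calc q⁻¹ * h ^ (n + 1) * q = (q⁻¹ * h ^ n * q) * (q⁻¹ * h * q) := by rw [pow_succ]; group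
            _ = d ^ n * (h ^ n * d) * h := by rw [ih, e]; group
            _ = d ^ (n + 1) * h ^ (n + 1) := by
              rw [(Commute.pow_left hdh n).eq, pow_succ, pow_succ]; group
      have hdn : d ^ orderOf h = 1 := by
        have := hpow (orderOf h)
        rwa [pow_orderOf_eq_one, mul_one, inv_mul_cancel, mul_one, eq_comm] at this
      obtain ⟨n, hn⟩ := hodd
      rw [hn, pow_succ, pow_mul, pow_two, R.sq d hdV, one_pow, one_mul] at hdn
      have : q⁻¹ * h * q = d * h := by rw [hd]; group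
      rw [hdn, one_mul] at this
      calc h * q = q * (q⁻¹ * h * q) := by group
        _ = q * h := by rw [this]
    obtain ⟨k, hk⟩ := R.q2 ⟨h, hhQ⟩
    have hk' : h ^ (2 ^ k) = 1 := congrArg Subtype.val hk
    have hcop : (orderOf h).Coprime (2 ^ k) := (Nat.coprime_two_right.mpr hodd).pow_right k
    have := Nat.eq_one_of_dvd_coprimes hcop dvd_rfl (orderOf_dvd_of_pow_eq_one hk')
    exact orderOf_eq_one_iff.mp this
  have hle : N ≤ Q := by
    refine R.qmax N inf_le_left ?_ h2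
    intro m hm a ha
    refine ⟨Subgroup.mul_mem _ (Subgroup.mul_mem _ hm ha.1) (Subgroup.inv_mem _ hm), Subgroup.mem_centralizer_iff.mpr fun z hz => ?_⟩
    have hz' := R.conj_mem_Ph (Subgroup.inv_mem _ hm) hz
    rw [inv_inv] at hz'
    have := hNcy a ha _ hz'
    calc z * (m * a * m⁻¹) = m * ((m⁻¹ * z * m) * a) * m⁻¹ := by group
      _ = m * (a * (m⁻¹ * z * m)) * m⁻¹ := by rw [this]
      _ = _ := by group
  have hcN : c ∈ N := ⟨hc, Subgroup.mem_centralizer_iff.mpr fun y hy => (hcy y hy).symm⟩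
  exact R.mem_of_central
    (mem_Ph.mpr ⟨hle hcN, fun v hv => (hcy v (R.V_le_Ph hv)).symm⟩) hcy

/-- Elements stabilising the chain `Ph V Q > V > 1` lie in `Ph V Q`. -/
theorem mem_Ph_of_stab {c : G} (hc : c ∈ Subgroup.normalizer (V : Set G)) (hcv : ∀ v ∈ V, c * v = v * c)
    (hcy : ∀ y ∈ Ph V Q, c * y * c⁻¹ * y⁻¹ ∈ V) : c ∈ Ph V Q := by
  let N : Subgroup G :=
    { carrier := {c | c ∈ Subgroup.normalizer (V : Set G) ∧ (∀ v ∈ V, c * v = v * c) ∧
        ∀ y ∈ Ph V Q, c * y * c⁻¹ * y⁻¹ ∈ V}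
      one_mem' := ⟨one_mem _, fun v _ => by simp, fun y _ => by simp⟩
      mul_mem' := by
        rintro a b ⟨ha1, ha2, ha3⟩ ⟨hb1, hb2, hb3⟩
        refine ⟨mul_mem ha1 hb1, fun v hv => by rw [mul_assoc, hb2 v hv, ← mul_assoc, ha2 v hv, mul_assoc],
          fun y hy => ?_⟩
        rw [show a * b * y * (a * b)⁻¹ * y⁻¹ =
          (a * (b * y * b⁻¹ * y⁻¹) * a⁻¹) * (a * y * a⁻¹ * y⁻¹) by group]
        exact mul_mem (R.conj_mem_V ha1 (hb3 y hy)) (ha3 y hy)
      inv_mem' := by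
        rintro a ⟨ha1, ha2, ha3⟩
        refine ⟨inv_mem ha1, fun v hv => ?_, fun y hy => ?_⟩
        · calc a⁻¹ * v = a⁻¹ * (v * a) * a⁻¹ := by group
            _ = a⁻¹ * (a * v) * a⁻¹ := by rw [ha2 v hv]
            _ = v * a⁻¹ := by group
        · rw [show a⁻¹ * y * a⁻¹⁻¹ * y⁻¹ = a⁻¹ * (a * y * a⁻¹ * y⁻¹)⁻¹ * a⁻¹⁻¹ by group]
          exact R.conj_mem_V (inv_mem ha1) (inv_mem (ha3 y hy)) }
  have h2 : IsPGroup 2 N := by
    apply isPGroup_two_of_odd
    rintro h ⟨h1, h2, h3⟩ hodd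
    have hV : h ∈ V := by
      refine R.mem_of_centralizes h1 fun y hy => ?_
      set e := h * y * h⁻¹ * y⁻¹ with he
      have heV := h3 y hy
      have hpow : ∀ n : ℕ, h ^ n * y = e ^ n * (y * h ^ n) := by
        intro n
        induction n with
        | zero => simp
        | succ n ih =>
          have e1 : h * y = e * (y * h) := by rw [he]; group
          calc h ^ (n + 1) * y = h ^ n * (h * y) := by rw [pow_succ, mul_assoc]
            _ = h ^ n * e * y * h := by rw [e1]; group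
            _ = e * (h ^ n * y) * h := by rw [(Commute.pow_left (h2 e heV) n).eq]; group
            _ = _ := by rw [ih, pow_succ', pow_succ]; group
      have := hpow (orderOf h)
      rw [pow_orderOf_eq_one, one_mul, mul_one, eq_comm, mul_eq_right] at this
      obtain ⟨n, hn⟩ := hodd
      rw [hn, pow_succ, pow_mul, pow_two, R.sq e heV, one_pow, one_mul] at this
      rwa [he, mul_inv_eq_one, mul_inv_eq_iff_eq_mul] at this
    obtain ⟨n, hn⟩ := hodd
    have := pow_orderOf_eq_one h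
    rwa [hn, pow_succ, pow_mul, pow_two, R.sq h hV, one_pow, one_mul] at this
  have hle : N ≤ Q := by
    refine R.qmax N (fun a ha => ha.1) ?_ h2
    rintro m hm a ⟨ha1, ha2, ha3⟩
    refine ⟨mul_mem (mul_mem hm ha1) (inv_mem hm), fun v hv => ?_, fun y hy => ?_⟩
    · have hv' := R.conj_mem_V (Subgroup.inv_mem _ hm) hv
      rw [inv_inv] at hv'
      calc m * a * m⁻¹ * v = m * (a * (m⁻¹ * v * m)) * m⁻¹ := by group
        _ = m * ((m⁻¹ * v * m) * a) * m⁻¹ := by rw [ha2 _ hv']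
        _ = _ := by group
    · have hy' := R.conj_mem_Ph (Subgroup.inv_mem _ hm) hy
      rw [inv_inv] at hy'
      rw [show m * a * m⁻¹ * y * (m * a * m⁻¹)⁻¹ * y⁻¹ =
        m * (a * (m⁻¹ * y * m) * a⁻¹ * (m⁻¹ * y * m)⁻¹) * m⁻¹ by group]
      exact R.conj_mem_V hm (ha3 _ hy')
  exact mem_Ph.mpr ⟨hle ⟨hc, hcv, hcy⟩, fun v hv => (hcv v hv).symm⟩

/-- Commutation with one nontrivial element of a partner is commutation with all of it. -/
theorem commute_all {U : Subgroup G} (hU : Partner V Q U) {y w : G} (hy : y ∈ Ph V Q) (hw : w ∈ U)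
    (hw1 : w ≠ 1) (hc : y * w = w * y) : ∀ u ∈ U, y * u = u * y := by
  intro u hu
  have hfix := R.fix_of_commute hU.1 hw hw1 hc
  have : y * u * y⁻¹ * u⁻¹ = 1 := R.inf_V hU (R.comm_mem hy (R.partner_le hU hu))
    (mul_mem (hfix.le (conj_mem_cj hu)) (inv_mem hu))
  rwa [mul_inv_eq_one, mul_inv_eq_iff_eq_mul] at this

theorem exists_noncommuting {U : Subgroup G} (hU : Partner V Q U) :
    ∃ X, Partner V Q X ∧ ∀ x ∈ X, ∀ u ∈ U, x * u = u * x → x = 1 ∨ u = 1 := by
  suffices h : ∃ X, Partner V Q X ∧ ∃ x ∈ X, ∃ u ∈ U, x * u ≠ u * x by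
    obtain ⟨X, hX, x0, hx0, u0, hu0, hne⟩ := h
    refine ⟨X, hX, fun x hx u hu hc => ?_⟩
    by_contra hcon
    push Not at hcon
    apply hne
    have h1 := R.commute_all hU (R.partner_le hX hx) hu hcon.2 hc u0 hu0
    exact (R.commute_all hX (R.partner_le hU hu0) hx hcon.1 h1.symm x0 hx0).symm
  by_contra hcon
  push Not at hcon
  let T : Set G := {g | g ∈ V ∨ ∃ Y, Partner V Q Y ∧ g ∈ Y ∧ ∀ X, Partner V Q X → ∀ x ∈ X, x * g = g * x}
  have hTP : ∀ g ∈ T, g ∈ Ph V Q := by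
    rintro g (hg | ⟨Y, hY, hg, -⟩)
    · exact R.V_le_Ph hg
    · exact R.partner_le hY hg
  have hTc : ∀ g ∈ T, ∀ g' ∈ T, g * g' = g' * g := by
    intro g hg g' hg'
    rcases hg with hg1 | ⟨Y, hY, hg1, hgc⟩
    · exact (mem_Ph.mp (hTP g' hg')).2 g hg1
    · rcases hg' with hg2 | ⟨Y', hY', hg2, hgc'⟩
      · exact ((mem_Ph.mp (R.partner_le hY hg1)).2 g' hg2).symm
      · exact hgc' Y hY g hg1
  have hclP : Subgroup.closure T ≤ Ph V Q := (Subgroup.closure_le _).mpr hTP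
  have hA : Subgroup.closure T = V := by
    refine R.maxab _ (fun v hv => Subgroup.subset_closure (Or.inl hv)) (fun a ha => R.qle (hclP ha).1) ?_ ?_
    · intro a ha b hb
      haveI := Subgroup.isMulCommutative_closure (k := T) hTc
      exact congrArg Subtype.val (mul_comm' (⟨a, ha⟩ : Subgroup.closure T) ⟨b, hb⟩)
    · intro m hm a ha
      induction ha using Subgroup.closure_induction with
      | mem g hg =>
        apply Subgroup.subset_closure
        rcases hg with hg | ⟨Y, hY, hg, hgc⟩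
        · exact Or.inl (R.conj_mem_V hm hg)
        · refine Or.inr ⟨cj m Y, R.partner_cj hY hm, conj_mem_cj hg, fun X hX x hx => ?_⟩
          have h1 := hgc (cj m⁻¹ X) (R.partner_cj hX (inv_mem hm)) _ (conj_mem_cj (x := m⁻¹) hx)
          rw [inv_inv] at h1
          calc x * (m * g * m⁻¹) = m * ((m⁻¹ * x * m) * g) * m⁻¹ := by group
            _ = m * (g * (m⁻¹ * x * m)) * m⁻¹ := by rw [h1]
            _ = _ := by group
      | one => simp
      | mul x y _ _ hx hy => simpa [mul_assoc] using mul_mem hx hy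
      | inv x _ hx => simpa [mul_assoc] using inv_mem hx
  obtain ⟨u, hu, hu1⟩ := R.mem_conjV hU
  refine hu1 (R.inf_V hU ?_ hu)
  exact hA.le (Subgroup.subset_closure (Or.inr ⟨U, hU, hu, fun X hX x hx => hcon X hX x hx u hu⟩))

omit [Finite G] in
theorem map_V_eq {U : Subgroup G} (hU : Partner V Q U) : Nat.card U = Nat.card V := by
  obtain ⟨⟨x, rfl⟩, -, -⟩ := hU
  exact card_cj x V

/-- Commutators of `Ph V Q` with a nontrivial partner element cover `V`. -/
theorem decompose {U X : Subgroup G} (hU : Partner V Q U) (hX : Partner V Q X)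
    (hnc : ∀ x ∈ X, ∀ u ∈ U, x * u = u * x → x = 1 ∨ u = 1) {w : G} (hw : w ∈ U) (hw1 : w ≠ 1) :
    (∀ v ∈ V, ∃ x ∈ X, x * w * x⁻¹ = v * w) ∧
      ∀ y ∈ Ph V Q, ∃ d ∈ Ph V Q, d * w = w * d ∧ ∃ x ∈ X, y = d * x := by
  let f : X → V := fun x => ⟨_, R.comm_mem (R.partner_le hX x.2) (R.partner_le hU hw)⟩
  have hf : Function.Injective f := by
    intro a b hab
    have h1 : a.1 * w * a.1⁻¹ * w⁻¹ = b.1 * w * b.1⁻¹ * w⁻¹ := congrArg Subtype.val hab
    have h2 := mul_right_cancel h1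
    have hc : (b.1⁻¹ * a.1) * w = w * (b.1⁻¹ * a.1) := by
      calc (b.1⁻¹ * a.1) * w = b.1⁻¹ * (a.1 * w * a.1⁻¹) * a.1 := by group
        _ = b.1⁻¹ * (b.1 * w * b.1⁻¹) * a.1 := by rw [h2]
        _ = _ := by group
    rcases hnc _ (mul_mem (inv_mem b.2) a.2) w hw hc with h | h
    · exact Subtype.ext (inv_mul_eq_one.mp h).symm
    · exact absurd h hw1
  have hsurj : ∀ v ∈ V, ∃ x ∈ X, x * w * x⁻¹ = v * w := by
    intro v hv
    haveI := Fintype.ofFinite X
    haveI := Fintype.ofFinite V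
    have hcard : Fintype.card X = Fintype.card V := by
      rw [Fintype.card_eq_nat_card, Fintype.card_eq_nat_card]
      exact R.map_V_eq hX
    obtain ⟨x, hx⟩ := ((Fintype.bijective_iff_injective_and_card f).mpr ⟨hf, hcard⟩).2 ⟨v, hv⟩
    refine ⟨x.1, x.2, ?_⟩
    have hx' : x.1 * w * x.1⁻¹ * w⁻¹ = v := congrArg Subtype.val hx
    rw [← hx', inv_mul_cancel_right]
  refine ⟨hsurj, fun y hy => ?_⟩
  have hv : y * w * y⁻¹ * w⁻¹ ∈ V := R.comm_mem hy (R.partner_le hU hw)
  obtain ⟨x, hx, hxw⟩ := hsurj _ hv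
  refine ⟨y * x⁻¹, mul_mem hy (inv_mem (R.partner_le hX hx)), ?_, x, hx, by group⟩
  rw [inv_mul_cancel_right] at hxw
  have hxP := R.partner_le hX hx
  have hdP : y * x⁻¹ ∈ Ph V Q := mul_mem hy (inv_mem hxP)
  set c := y * w * y⁻¹ * w⁻¹ with hc
  have h1 : (y * x⁻¹) * (c * w) = (c * w) * (y * x⁻¹) := by
    calc (y * x⁻¹) * (c * w) = (y * x⁻¹) * (x * w * x⁻¹) := by rw [hxw, hc]; group
      _ = y * w * y⁻¹ * (y * x⁻¹) := by group
      _ = _ := by rw [hc]; group
  have h2 := (mem_Ph.mp hdP).2 c hv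
  apply mul_left_cancel (a := c)
  calc c * (y * x⁻¹ * w) = (y * x⁻¹) * (c * w) := by rw [← mul_assoc, h2, mul_assoc]
    _ = (c * w) * (y * x⁻¹) := h1
    _ = _ := mul_assoc _ _ _

/-- The centre of the centraliser of a partner is the line. -/
theorem central_mem {U : Subgroup G} (hU : Partner V Q U) {e : G} (he : e ∈ Ph V Q)
    (hec : ∀ d ∈ Ph V Q, (∀ u ∈ U, d * u = u * d) → e * d = d * e) :
    ∃ v ∈ V, ∃ u ∈ U, e = v * u := by
  obtain ⟨X, hX, hnc⟩ := R.exists_noncommuting hU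
  obtain ⟨x0, hx0, hx01⟩ := R.mem_conjV hX
  obtain ⟨w, hw, hw1⟩ := R.mem_conjV hU
  have hUc : ∀ u ∈ U, ∀ u' ∈ U, u * u' = u' * u := by
    intro u hu u' hu'
    exact R.commute_all hU (R.partner_le hU hu) hw hw1 (by
      have a := R.sq_conj hU.1 (mul_mem hu hw)
      calc u * w = (u * w)⁻¹ := (inv_eq_of_mul_eq_one_right a).symm
        _ = w * u := by
          rw [mul_inv_rev, inv_eq_of_mul_eq_one_right (R.sq_conj hU.1 hu),
            inv_eq_of_mul_eq_one_right (R.sq_conj hU.1 hw)]) u' hu'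
  obtain ⟨d, hd, hdx, u, hu, rfl⟩ :=
    (R.decompose hX hU (fun a ha b hb h => (hnc b hb a ha h.symm).symm) hx0 hx01).2 e he
  refine ⟨d, R.mem_of_central hd fun y hy => ?_, u, hu, rfl⟩
  obtain ⟨d', hd', hd'w, x, hx, rfl⟩ := (R.decompose hU hX hnc hw hw1).2 y hy
  have hd'U := R.commute_all hU hd' hw hw1 hd'w
  have h1 : d * u * d' = d' * (d * u) := hec d' hd' hd'U
  have h2 : d * d' = d' * d := by
    calc d * d' = d * u * d' * u⁻¹ := by rw [mul_assoc d u d', ← hd'U u hu]; group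
      _ = d' * d := by rw [h1]; group
  have h3 : d * x = x * d := R.commute_all hX hd hx0 hx01 hdx x hx
  rw [← mul_assoc, h2, mul_assoc, h3, mul_assoc]

theorem mem_line {U : Subgroup G} (hU : Partner V Q U) {w : G} :
    w ∈ U ⊔ V ↔ ∃ u ∈ U, ∃ v ∈ V, u * v = w := by
  rw [← SetLike.mem_coe, Subgroup.coe_mul_of_left_le_normalizer_right U V fun u hu => R.qle (hU.2.2 hu),
    Set.mem_mul]
  simp

theorem cj_le_line {U : Subgroup G} (hU : Partner V Q U) {y : G} (hy : y ∈ Ph V Q) : cj y U ≤ U ⊔ V := by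
  rintro _ ⟨u, hu, rfl⟩
  show y * u * y⁻¹ ∈ U ⊔ V
  rw [show y * u * y⁻¹ = y * u * y⁻¹ * u⁻¹ * u by group]
  exact mul_mem (Subgroup.mem_sup_right (R.comm_mem hy (R.partner_le hU hu))) (Subgroup.mem_sup_left hu)

/-- Each element of the line lies in a conjugate of `V` of the form `V` or `y U y⁻¹`. -/
theorem line_cover {U : Subgroup G} (hU : Partner V Q U) {w : G} (hw : w ∈ U ⊔ V) :
    w ∈ V ∨ ∃ y ∈ Ph V Q, w ∈ cj y U := by
  obtain ⟨u, hu, v, hv, rfl⟩ := (R.mem_line hU).mp hw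
  by_cases hu1 : u = 1
  · left; rw [hu1, one_mul]; exact hv
  right
  obtain ⟨X, hX, hnc⟩ := R.exists_noncommuting hU
  obtain ⟨x, hx, hxu⟩ := (R.decompose hU hX hnc hu hu1).1 v hv
  refine ⟨x, R.partner_le hX hx, ?_⟩
  rw [← R.commute_partner hU hv hu, ← hxu]
  exact conj_mem_cj hu

theorem line_conj {U C : Subgroup G} (hU : Partner V Q U) (hC : ∃ x, C = cj x V) (hCW : C ≤ U ⊔ V)
    (hne : C ≠ V) : ∃ y ∈ Ph V Q, C = cj y U := by
  obtain ⟨w, hw, hw1⟩ : ∃ w ∈ C, w ≠ 1 := by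
    obtain ⟨u, hu, hu1⟩ := R.mem_conjV hU
    obtain ⟨a, ha⟩ := hU.1
    obtain ⟨x, rfl⟩ := hC
    refine ⟨x * (a⁻¹ * u * a) * x⁻¹, conj_mem_cj (mem_cj.mp (ha ▸ hu)), fun e => hu1 ?_⟩
    rw [mul_inv_eq_one, mul_eq_left] at e
    calc u = a * (a⁻¹ * u * a) * a⁻¹ := by group
      _ = 1 := by rw [e]; group
  rcases R.line_cover hU (hCW hw) with h | ⟨y, hy, h⟩
  · exact absurd (R.ti_eq hC ⟨1, (cj_one V).symm⟩ hw h hw1) hne
  · obtain ⟨a, ha⟩ := hU.1
    exact ⟨y, hy, R.ti_eq hC ⟨y * a, by rw [ha, cj_cj]⟩ hw h hw1⟩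

/-- A 2-element of the normaliser of `V` centralising a partner centralises `V`. -/
theorem commute_V_of_two {U S : Subgroup G} (hU : Partner V Q U) (hS : IsPGroup 2 S)
    (hSN : S ≤ Subgroup.normalizer (V : Set G)) {m : G} (hm : m ∈ S) (hmU : ∀ u ∈ U, m * u = u * m) :
    ∀ v ∈ V, m * v = v * m := by
  obtain ⟨X, hX, hnc⟩ := R.exists_noncommuting hU
  obtain ⟨w, hw, hw1⟩ := R.mem_conjV hU
  -- a nontrivial element of `V` fixed by `S`
  set S' := S ⊔ V with hS'
  have hV2 : IsPGroup 2 V := R.q2.to_le R.vle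
  have hS'2 : IsPGroup 2 S' := IsPGroup.to_sup_of_normal_right' hS hV2 hSN
  haveI := hS'2.isNilpotent
  haveI : (V.subgroupOf S').Normal := ⟨fun a ha b => by
    rw [Subgroup.mem_subgroupOf] at ha ⊢
    exact R.conj_mem_V ((sup_le hSN Subgroup.le_normalizer : S' ≤ _) b.2) ha⟩
  have hne : V.subgroupOf S' ≠ ⊥ := by
    obtain ⟨x, hx, hxw⟩ := (R.decompose hU hX hnc hw hw1).2 w (R.partner_le hU hw)
    obtain ⟨a, ha⟩ := hU.1
    intro e
    apply hw1
    have hv : a⁻¹ * w * a ∈ V := mem_cj.mp (ha ▸ hw)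
    have : (⟨a⁻¹ * w * a, Subgroup.mem_sup_right hv⟩ : S') ∈ V.subgroupOf S' := hv
    rw [e, Subgroup.mem_bot] at this
    have h1 : a⁻¹ * w * a = 1 := congrArg Subtype.val this
    calc w = a * (a⁻¹ * w * a) * a⁻¹ := by group
      _ = 1 := by rw [h1]; group
  obtain ⟨⟨v0, hv0⟩, hv01⟩ :=
    (Subgroup.ne_bot_iff_exists_ne_one).mp (Cfsg.Agent.Lib.Solvable.inf_center_ne_bot hne)
  have hv0V : (v0 : G) ∈ V := hv0.1
  have hv0m : m * (v0 : G) = (v0 : G) * m :=
    congrArg Subtype.val (Subgroup.mem_center_iff.mp hv0.2 ⟨m, Subgroup.mem_sup_left hm⟩)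
  obtain ⟨x, hx, hxw⟩ := (R.decompose hU hX hnc hw hw1).1 _ hv0V
  have hxP := R.partner_le hX hx
  have hmN := hSN hm
  have hm' : ∀ a : G, (∀ u ∈ U, m * u = u * m) → ∀ u ∈ U, m * (a * u * a⁻¹) * m⁻¹ =
      (m * a * m⁻¹) * u * (m * a * m⁻¹)⁻¹ := by
    intro a _ u hu
    have : m⁻¹ * u * m = u := by rw [mul_assoc, ← hmU u hu, inv_mul_cancel_left]
    calc m * (a * u * a⁻¹) * m⁻¹ = m * (a * (m⁻¹ * u * m) * a⁻¹) * m⁻¹ := by rw [this]
      _ = _ := by group
  have hy : ∀ u ∈ U, (m * x * m⁻¹) * u * (m * x * m⁻¹)⁻¹ = x * u * x⁻¹ := by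
    have hfix : (m * x * m⁻¹) * w * (m * x * m⁻¹)⁻¹ = x * w * x⁻¹ := by
      rw [← hm' x hmU w hw, hxw, ← mul_assoc, hv0m, mul_assoc (v0 : G), hmU w hw]
      group
    have hc : (x⁻¹ * (m * x * m⁻¹)) * w = w * (x⁻¹ * (m * x * m⁻¹)) := by
      calc (x⁻¹ * (m * x * m⁻¹)) * w = x⁻¹ * ((m * x * m⁻¹) * w * (m * x * m⁻¹)⁻¹) * (m * x * m⁻¹) := by group
        _ = x⁻¹ * (x * w * x⁻¹) * (m * x * m⁻¹) := by rw [hfix]
        _ = _ := by group
    intro u hu
    have := R.commute_all hU (mul_mem (inv_mem hxP) (R.conj_mem_Ph hmN hxP)) hw hw1 hc u hu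
    calc (m * x * m⁻¹) * u * (m * x * m⁻¹)⁻¹ = x * ((x⁻¹ * (m * x * m⁻¹)) * u) * (m * x * m⁻¹)⁻¹ := by group
      _ = x * (u * (x⁻¹ * (m * x * m⁻¹))) * (m * x * m⁻¹)⁻¹ := by rw [this]
      _ = _ := by group
  let f : U → V := fun u => ⟨_, R.comm_mem hxP (R.partner_le hU u.2)⟩
  have hx1 : x ≠ 1 := by
    intro e
    rw [e, one_mul, inv_one, mul_one, eq_comm, mul_eq_right] at hxw
    exact hv01 (Subtype.ext (Subtype.ext hxw))
  have hf : Function.Injective f := by
    intro a b hab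
    have h1 : x * a.1 * x⁻¹ * a.1⁻¹ = x * b.1 * x⁻¹ * b.1⁻¹ := congrArg Subtype.val hab
    have hc : x * (a.1⁻¹ * b.1) = (a.1⁻¹ * b.1) * x := by
      calc x * (a.1⁻¹ * b.1) = a.1⁻¹ * (x * a.1 * x⁻¹ * a.1⁻¹)⁻¹ * (x * b.1 * x⁻¹ * b.1⁻¹) * b.1 * x := by group
        _ = _ := by rw [h1]; group
    rcases hnc x hx _ (mul_mem (inv_mem a.2) b.2) hc with h | h
    · exact absurd h hx1
    · exact Subtype.ext (inv_mul_eq_one.mp h)
  intro v hv
  haveI := Fintype.ofFinite U
  haveI := Fintype.ofFinite V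
  have hcard : Fintype.card U = Fintype.card V := by
    rw [Fintype.card_eq_nat_card, Fintype.card_eq_nat_card]
    exact R.map_V_eq hU
  obtain ⟨u, hu⟩ := ((Fintype.bijective_iff_injective_and_card f).mpr ⟨hf, hcard⟩).2 ⟨v, hv⟩
  have hu' : x * u.1 * x⁻¹ * u.1⁻¹ = v := congrArg Subtype.val hu
  have h2 : m * v * m⁻¹ = v := by
    calc m * v * m⁻¹ = (m * (x * u.1 * x⁻¹) * m⁻¹) * (m * u.1 * m⁻¹)⁻¹ := by rw [← hu']; group
      _ = v := by rw [hm' x hmU u.1 u.2, hy u.1 u.2, hmU u.1 u.2, mul_inv_cancel_right, hu']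
  exact mul_inv_eq_iff_eq_mul.mp h2

/-- Some element of the stabiliser of the line maps `V` to the partner. -/
theorem exists_move {U : Subgroup G} (hU : Partner V Q U) :
    ∃ k : G, cj k (U ⊔ V) = U ⊔ V ∧ cj k V = U := by
  haveI := Fact.mk Nat.prime_two
  obtain ⟨w, hw, hw1⟩ := R.mem_conjV hU
  set CV := Subgroup.centralizer (V : Set G) with hCV
  set CU := Subgroup.centralizer (U : Set G) with hCU
  have hCVN : CV ≤ Subgroup.normalizer (V : Set G) := by
    intro c hc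
    rw [← cj_eq_self_iff]
    ext y
    rw [mem_cj]
    constructor <;> intro hy
    · have := Subgroup.mem_centralizer_iff.mp hc _ hy
      have e : y = c⁻¹ * y * c := by
        calc y = c * (c⁻¹ * y * c) * c⁻¹ := by group
          _ = (c⁻¹ * y * c) * c * c⁻¹ := by rw [this]
          _ = _ := by group
      rw [e]; exact hy
    · rw [mul_assoc, Subgroup.mem_centralizer_iff.mp hc y hy, inv_mul_cancel_left]
      exact hy
  obtain ⟨T⟩ := (inferInstance : Nonempty (Sylow 2 ↥(CV ⊓ CU)))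
  set T0 := (T : Subgroup ↥(CV ⊓ CU)).map (CV ⊓ CU).subtype with hT0
  have hT02 : IsPGroup 2 T0 := T.2.map _
  have hT0C : T0 ≤ CV ⊓ CU := Subgroup.map_subtype_le _
  have hmax : ∀ S : Subgroup G, S ≤ CV ⊓ CU → IsPGroup 2 S → T0 ≤ S → S = T0 := by
    intro S hS hS2 hle
    have e := T.3 (Q := S.subgroupOf (CV ⊓ CU)) (hS2.comap_subtype) (by
      intro a ha
      exact hle ⟨a, ha, rfl⟩)
    rw [hT0, ← e, Subgroup.map_subgroupOf_eq_of_le hS]
  have hsup : ∀ A : Subgroup G, A ≤ CV ⊓ CU → IsPGroup 2 A → T0 ≤ Subgroup.normalizer (A : Set G) → A ≤ T0 := by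
    intro A hA hA2 hAn
    have := hmax (T0 ⊔ A) (sup_le hT0C hA) (IsPGroup.to_sup_of_normal_right' hT02 hA2 hAn) le_sup_left
    exact this ▸ le_sup_right
  have hVC : V ≤ CV ⊓ CU := fun v hv => ⟨Subgroup.mem_centralizer_iff.mpr fun a ha => R.comm ha hv,
    Subgroup.mem_centralizer_iff.mpr fun u hu => (R.commute_partner hU hv hu).symm⟩
  have hVT : V ≤ T0 := hsup V hVC (R.q2.to_le R.vle) fun t ht => hCVN (hT0C ht).1
  set D := Ph V Q ⊓ CU with hD
  have hDC : D ≤ CV ⊓ CU := fun d hd => ⟨hd.1.2, hd.2⟩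
  have hDT : D ≤ T0 := by
    refine hsup D hDC (R.q2.to_le (inf_le_left.trans inf_le_left)) fun t ht => ?_
    rw [← cj_eq_self_iff]
    apply Subgroup.eq_of_le_of_card_ge
    · rintro _ ⟨d, hd, rfl⟩
      refine ⟨R.conj_mem_Ph (hCVN (hT0C ht).1) hd.1, ?_⟩
      exact Subgroup.mul_mem _ (Subgroup.mul_mem _ (hT0C ht).2 hd.2) (Subgroup.inv_mem _ (hT0C ht).2)
    · exact (card_cj t D).ge
  -- `T0` is not a Sylow 2-subgroup of the centraliser of the partner
  have hPN : T0 ≤ Subgroup.normalizer (Ph V Q : Set G) := by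
    intro t ht
    rw [← cj_eq_self_iff]
    apply Subgroup.eq_of_le_of_card_ge
    · rintro _ ⟨d, hd, rfl⟩
      exact R.conj_mem_Ph (hCVN (hT0C ht).1) hd
    · exact (card_cj t _).ge
  set S1 := T0 ⊔ Ph V Q with hS1
  have hS12 : IsPGroup 2 S1 := IsPGroup.to_sup_of_normal_right' hT02 (R.q2.to_le inf_le_left) hPN
  have hlt : T0 < S1 := by
    refine lt_of_le_of_ne le_sup_left fun e => hw1 (R.inf_V hU ?_ hw)
    refine R.mem_of_central (R.partner_le hU hw) fun y hy => ?_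
    exact (Subgroup.mem_centralizer_iff.mp (hT0C (e ▸ (Subgroup.mem_sup_right hy : y ∈ S1))).2 w hw)
  obtain ⟨a, ha⟩ := hU.1
  have hS1C : S1 ≤ CV := sup_le (hT0C.trans inf_le_left) inf_le_right
  have hS1U : cj a S1 ≤ CU := by
    rintro _ ⟨s, hs, rfl⟩
    refine Subgroup.mem_centralizer_iff.mpr fun u hu => ?_
    have hv : a⁻¹ * u * a ∈ V := mem_cj.mp (ha ▸ hu)
    have := Subgroup.mem_centralizer_iff.mp (hS1C hs) _ hv
    show u * (a * s * a⁻¹) = a * s * a⁻¹ * u
    calc u * (a * s * a⁻¹) = a * ((a⁻¹ * u * a) * s) * a⁻¹ := by group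
      _ = a * (s * (a⁻¹ * u * a)) * a⁻¹ := by rw [this]
      _ = _ := by group
  obtain ⟨T', hT'⟩ := (IsPGroup.comap_subtype (K := CU) hT02).exists_le_sylow
  set S := (T' : Subgroup CU).map CU.subtype with hS
  have hS2 : IsPGroup 2 S := T'.2.map _
  have hTS : T0 < S := by
    refine lt_of_le_of_ne (fun t ht => ⟨⟨t, (hT0C ht).2⟩, hT' ht, rfl⟩) fun e => ?_
    obtain ⟨T'', hT''⟩ := ((hS12.map (MulAut.conj a).toMonoidHom).comap_subtype (K := CU)).exists_le_sylow
    have h1 : Nat.card ((cj a S1).subgroupOf CU) ≤ Nat.card T'' := Subgroup.card_le_of_le hT''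
    rw [Nat.card_congr (Subgroup.subgroupOfEquivOfLe hS1U).toEquiv, card_cj] at h1
    have h3 : Nat.card T0 = Nat.card T'' := by
      rw [e, hS, ← Nat.card_congr (Subgroup.equivMapOfInjective _ _ CU.subtype_injective).toEquiv,
        Sylow.card_eq_multiplicity, Sylow.card_eq_multiplicity]
    have h2 : Nat.card T0 < Nat.card S1 := lt_of_le_of_ne (Subgroup.card_le_of_le hlt.le)
      fun e' => hlt.ne (Subgroup.eq_of_le_of_card_ge hlt.le e'.ge)
    omega
  obtain ⟨n, hnS, hnT, hnN⟩ := exists_mem_normalizer hS2 hTS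
  have hnU : ∀ u ∈ U, n * u = u * n := fun u hu =>
    (Subgroup.mem_centralizer_iff.mp (Subgroup.map_subtype_le _ hnS) u hu).symm
  have hnV : n ∉ Subgroup.normalizer (V : Set G) := by
    intro hn
    have hcv := R.commute_V_of_two hU (hS2.to_le (Subgroup.zpowers_le.mpr hnS))
      (Subgroup.zpowers_le.mpr hn) (Subgroup.mem_zpowers n) hnU
    apply hnT
    have hnC : n ∈ CV ⊓ CU := ⟨Subgroup.mem_centralizer_iff.mpr fun v hv => (hcv v hv).symm,
      Subgroup.mem_centralizer_iff.mpr fun u hu => (hnU u hu).symm⟩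
    have := hmax (T0 ⊔ Subgroup.zpowers n) (sup_le hT0C (Subgroup.zpowers_le.mpr hnC))
      (hS2.to_le (sup_le hTS.le (Subgroup.zpowers_le.mpr hnS))) le_sup_left
    exact this.le (Subgroup.mem_sup_right (Subgroup.mem_zpowers n))
  -- the image of `V` under `n` lies in the line
  have hnVW : cj n V ≤ U ⊔ V := by
    intro z hz
    have hnT0 : cj n T0 = T0 := cj_eq_self_iff.mpr hnN
    have hzT : z ∈ T0 := hnT0.le (cj_mono hVT hz)
    have hzV : ∀ v ∈ V, z * v = v * z := fun v hv =>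
      (Subgroup.mem_centralizer_iff.mp (hT0C hzT).1 v hv).symm
    have hzN := hCVN (hT0C hzT).1
    have hzD : ∀ d ∈ Ph V Q, (∀ u ∈ U, d * u = u * d) → z * d = d * z := by
      intro d hd hdu
      have hdT : d ∈ cj n T0 :=
        hnT0.ge (hDT ⟨hd, Subgroup.mem_centralizer_iff.mpr fun u hu => (hdu u hu).symm⟩)
      obtain ⟨t, ht, rfl⟩ := hdT
      obtain ⟨v, hv, rfl⟩ := hz
      have := Subgroup.mem_centralizer_iff.mp (hT0C ht).1 v hv
      show (n * v * n⁻¹) * (n * t * n⁻¹) = (n * t * n⁻¹) * (n * v * n⁻¹)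
      calc (n * v * n⁻¹) * (n * t * n⁻¹) = n * (v * t) * n⁻¹ := by group
        _ = n * (t * v) * n⁻¹ := by rw [this]
        _ = _ := by group
    have hUself : ∀ u ∈ U, ∀ u' ∈ U, u * u' = u' * u := by
      intro u hu u' hu'
      have a0 := R.sq_conj hU.1 (mul_mem hu hu')
      calc u * u' = (u * u')⁻¹ := (inv_eq_of_mul_eq_one_right a0).symm
        _ = u' * u := by
          rw [mul_inv_rev, inv_eq_of_mul_eq_one_right (R.sq_conj hU.1 hu),
            inv_eq_of_mul_eq_one_right (R.sq_conj hU.1 hu')]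
    have hzP : z ∈ Ph V Q := by
      refine R.mem_Ph_of_stab hzN hzV fun y hy => ?_
      set y' := z * y * z⁻¹ with hy'
      have hy'P : y' ∈ Ph V Q := R.conj_mem_Ph hzN hy
      obtain ⟨v, hv, u, hu, hvu⟩ := R.central_mem hU (e := y⁻¹ * y') (mul_mem (inv_mem hy) hy'P) (by
        intro d hd hdu
        set c := y * d * y⁻¹ * d⁻¹ with hc
        have hcV : c ∈ V := R.comm_mem hy hd
        have hzd := hzD d hd hdu
        have e1 : y' * d * y'⁻¹ = y * d * y⁻¹ := by
          have hd2 : z⁻¹ * d * z = d := by rw [mul_assoc, ← hzd, inv_mul_cancel_left]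
          calc y' * d * y'⁻¹ = z * (y * (z⁻¹ * d * z) * y⁻¹) * z⁻¹ := by rw [hy']; group
            _ = z * (c * d) * z⁻¹ := by rw [hd2, hc]; group
            _ = c * d := by rw [← mul_assoc, hzV c hcV, mul_assoc c z d, hzd]; group
            _ = _ := by rw [hc]; group
        calc y⁻¹ * y' * d = y⁻¹ * (y' * d * y'⁻¹) * y' := by group
          _ = y⁻¹ * (y * d * y⁻¹) * y' := by rw [e1]
          _ = _ := by group)
      have hyv : y' = y * (v * u) := by rw [← hvu]; group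
      have hsqy : y' * y' = y * y := by
        have : z * (y * y) = y * y * z := hzV _ (R.sq_mem hy)
        calc y' * y' = z * (y * y) * z⁻¹ := by rw [hy']; group
          _ = y * y := by rw [this]; group
      have hyu : y * u = u * y := by
        have h1 : y * (v * u) * (y * (v * u)) = y * y := by rw [← hyv]; exact hsqy
        have huv := R.commute_partner hU hv hu
        have hyv' := (mem_Ph.mp hy).2 v hv
        have h4 : y * u * y * u = y * y := by
          have key : y * (v * u) * (y * (v * u)) = v * v * (y * u * y * u) := by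
            calc y * (v * u) * (y * (v * u)) = (y * v) * u * (y * v) * u := by group
              _ = (v * y) * u * (v * y) * u := by rw [hyv']
              _ = v * y * (u * v) * y * u := by group
              _ = v * y * (v * u) * y * u := by rw [huv]
              _ = v * (y * v) * u * y * u := by group
              _ = v * (v * y) * u * y * u := by rw [hyv']
              _ = _ := by group
          rw [key, R.sq v hv, one_mul] at h1
          exact h1
        have h5 : u * y * u = y := by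
          have := mul_left_cancel (a := y) (b := u * y * u) (c := y) (by simpa [mul_assoc] using h4)
          exact this
        calc y * u = u * y * u * u := by rw [h5]
          _ = u * y := by rw [mul_assoc _ u u, R.sq_conj hU.1 hu, mul_one]
      by_cases hu1 : u = 1
      · rw [hyv, hu1, mul_one, ← (mem_Ph.mp hy).2 v hv, mul_inv_cancel_right]
        exact hv
      · have := hzD y hy (R.commute_all hU hy hu hu1 hyu)
        rw [hy', this, mul_inv_cancel_right, mul_inv_cancel]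
        exact one_mem V
    obtain ⟨v, hv, u, hu, rfl⟩ := R.central_mem hU hzP hzD
    exact mul_mem (Subgroup.mem_sup_right hv) (Subgroup.mem_sup_left hu)
  have hnW : cj n (U ⊔ V) = U ⊔ V := by
    apply Subgroup.eq_of_le_of_card_ge
    · rw [cj_sup]
      refine sup_le ?_ hnVW
      rintro _ ⟨u, hu, rfl⟩
      show n * u * n⁻¹ ∈ U ⊔ V
      rw [hnU u hu, mul_inv_cancel_right]
      exact Subgroup.mem_sup_left hu
    · exact (card_cj n _).ge
  obtain ⟨y, hy, hyU⟩ := R.line_conj hU ⟨n, rfl⟩ hnVW fun e => hnV (cj_eq_self_iff.mp e)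
  refine ⟨y⁻¹ * n, ?_, ?_⟩
  · rw [← cj_cj, hnW, cj_eq_iff, inv_inv]
    symm
    apply Subgroup.eq_of_le_of_card_ge
    · rw [cj_sup]
      refine sup_le (R.cj_le_line hU hy) ?_
      rw [cj_eq_self_iff.mpr (R.qle hy.1)]
      exact le_sup_right
    · exact (card_cj y _).ge
  · rw [← cj_cj, hyU, cj_cj, inv_mul_cancel, cj_one]

end Root

end Cfsg.Agent.Lib.TIRoot
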