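import Cfsg.Agent.Lib.Solvable.Nilpotent
import Mathlib

/-!
Trivial intersection root groups with a conjugate in the radical of their normalisers.
-/

set_option autoImplicit false

namespace Cfsg.Agent.Lib.TIRoot

open scoped commutatorElement

variable {G : Type*} [Group G]

/-- The conjugate `x U x⁻¹`. -/
def cj (x : G) (U : Subgroup G) : Subgroup G := U.map (MulAut.conj x).toMonoidHom

theorem mem_cj {x y : G} {U : Subgroup G} : y ∈ cj x U ↔ x⁻¹ * y * x ∈ U := by
  constructor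
  · rintro ⟨u, hu, rfl⟩
    simpa [mul_assoc] using hu
  · intro h
    exact ⟨_, h, by simp [mul_assoc]⟩

theorem conj_mem_cj {x y : G} {U : Subgroup G} (h : y ∈ U) : x * y * x⁻¹ ∈ cj x U := ⟨y, h, rfl⟩

theorem cj_cj (x y : G) (U : Subgroup G) : cj x (cj y U) = cj (x * y) U := by
  ext z; simp [mem_cj, mul_assoc]

theorem cj_one (U : Subgroup G) : cj 1 U = U := by ext z; simp [mem_cj]

theorem cj_inf (x : G) (U W : Subgroup G) : cj x (U ⊓ W) = cj x U ⊓ cj x W := by ext z; simp [mem_cj]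

theorem cj_mono {x : G} {U W : Subgroup G} (h : U ≤ W) : cj x U ≤ cj x W := Subgroup.map_mono h

theorem cj_eq_iff {x : G} {U W : Subgroup G} : cj x U = W ↔ U = cj x⁻¹ W := by
  constructor <;> intro h
  · rw [← h, cj_cj, inv_mul_cancel, cj_one]
  · rw [h, cj_cj, mul_inv_cancel, cj_one]

theorem cj_eq_self_iff {x : G} {U : Subgroup G} : cj x U = U ↔ x ∈ Subgroup.normalizer (U : Set G) := by
  rw [Subgroup.mem_normalizer_iff]
  constructor
  · intro h y
    conv_rhs => rw [← h]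
    show y ∈ U ↔ x * y * x⁻¹ ∈ cj x U
    rw [mem_cj, show x⁻¹ * (x * y * x⁻¹) * x = y by group]
  · intro h
    ext y
    rw [mem_cj]
    have := h (x⁻¹ * y * x)
    rw [show x * (x⁻¹ * y * x) * x⁻¹ = y by group] at this
    exact this

theorem card_cj (x : G) (U : Subgroup G) : Nat.card (cj x U) = Nat.card U :=
  Nat.card_congr (Subgroup.equivMapOfInjective U _ (MulAut.conj x).injective).toEquiv.symm

theorem cj_sup (x : G) (U W : Subgroup G) : cj x (U ⊔ W) = cj x U ⊔ cj x W := Subgroup.map_sup U W _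

/-- A finite subgroup without nontrivial elements of odd order is a 2-group. -/
theorem isPGroup_two_of_odd [Finite G] (N : Subgroup G) (h : ∀ x ∈ N, Odd (orderOf x) → x = 1) :
    IsPGroup 2 N := by
  intro x
  obtain ⟨k, m, hm, hx⟩ := Nat.exists_eq_two_pow_mul_odd (orderOf_pos (x : G)).ne'
  refine ⟨k, ?_⟩
  apply Subtype.ext
  rw [SubgroupClass.coe_pow, OneMemClass.coe_one]
  apply h _ (pow_mem x.2 _)
  rw [orderOf_pow' _ (pow_ne_zero k two_ne_zero), hx, Nat.gcd_mul_right_left, Nat.mul_div_cancel_left _ (by positivity)]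
  exact hm

theorem exists_mem_normalizer [Finite G] {T S : Subgroup G} (hS : IsPGroup 2 S) (hlt : T < S) :
    ∃ n ∈ S, n ∉ T ∧ n ∈ Subgroup.normalizer (T : Set G) := by
  haveI := hS.isNilpotent
  have hne : T.subgroupOf S < ⊤ := by
    rw [lt_top_iff_ne_top, Ne, Subgroup.subgroupOf_eq_top]
    exact not_le_of_gt hlt
  obtain ⟨n, hn, hnT⟩ := SetLike.exists_of_lt (normalizerCondition_of_isNilpotent _ hne)
  refine ⟨n.1, n.2, fun h => hnT (Subgroup.mem_subgroupOf.mpr h), ?_⟩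
  rw [Subgroup.mem_normalizer_iff] at hn ⊢
  intro y
  constructor <;> intro hy
  · have := (hn ⟨y, hlt.le hy⟩).mp (Subgroup.mem_subgroupOf.mpr hy)
    simpa [Subgroup.mem_subgroupOf] using this
  · have hyS : y ∈ S := by
      have := S.mul_mem (S.mul_mem (S.inv_mem n.2) (hlt.le hy)) n.2
      simpa [mul_assoc] using this
    exact Subgroup.mem_subgroupOf.mp ((hn ⟨y, hyS⟩).mpr (by simpa [Subgroup.mem_subgroupOf] using hy))

/-- The hypotheses on `V` and the radical `Q` of its normaliser. -/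
structure Root (V Q : Subgroup G) : Prop where
  sq : ∀ v ∈ V, v * v = 1
  qle : Q ≤ Subgroup.normalizer (V : Set G)
  vle : V ≤ Q
  qnorm : ∀ m ∈ Subgroup.normalizer (V : Set G), ∀ y ∈ Q, m * y * m⁻¹ ∈ Q
  q2 : IsPGroup 2 Q
  qmax : ∀ N : Subgroup G, N ≤ Subgroup.normalizer (V : Set G) →
    (∀ m ∈ Subgroup.normalizer (V : Set G), ∀ y ∈ N, m * y * m⁻¹ ∈ N) → IsPGroup 2 N → N ≤ Q
  qcent : ∀ c ∈ Subgroup.normalizer (V : Set G), (∀ y ∈ Q, c * y = y * c) → c ∈ Q
  maxab : ∀ A : Subgroup G, V ≤ A → A ≤ Subgroup.normalizer (V : Set G) →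
    (∀ a ∈ A, ∀ b ∈ A, a * b = b * a) →
    (∀ m ∈ Subgroup.normalizer (V : Set G), ∀ a ∈ A, m * a * m⁻¹ ∈ A) → A = V
  ti : ∀ x : G, cj x V = V ∨ cj x V ⊓ V = ⊥

variable {V Q : Subgroup G}

/-- The centraliser of `V` in `Q`. -/
def Ph (V Q : Subgroup G) : Subgroup G := Q ⊓ Subgroup.centralizer (V : Set G)

theorem mem_Ph {y : G} : y ∈ Ph V Q ↔ y ∈ Q ∧ ∀ v ∈ V, v * y = y * v :=
  ⟨fun h => ⟨h.1, fun v hv => Subgroup.mem_centralizer_iff.mp h.2 v hv⟩,
    fun h => ⟨h.1, Subgroup.mem_centralizer_iff.mpr h.2⟩⟩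

/-- A conjugate of `V` inside `Q`, other than `V`. -/
def Partner (V Q U : Subgroup G) : Prop := (∃ x, U = cj x V) ∧ U ≠ V ∧ U ≤ Q

namespace Root

variable (R : Root V Q)

include R

theorem sq_conj {U : Subgroup G} (hU : ∃ x, U = cj x V) {u : G} (hu : u ∈ U) : u * u = 1 := by
  obtain ⟨x, rfl⟩ := hU
  have := R.sq _ (mem_cj.mp hu)
  calc u * u = x * (x⁻¹ * u * x * (x⁻¹ * u * x)) * x⁻¹ := by group
    _ = 1 := by rw [this]; group

theorem inv_eq {v : G} (hv : v ∈ V) : v⁻¹ = v := inv_eq_of_mul_eq_one_right (R.sq v hv)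

theorem comm {v w : G} (hv : v ∈ V) (hw : w ∈ V) : v * w = w * v := by
  calc v * w = (v * w)⁻¹ := (R.inv_eq (V.mul_mem hv hw)).symm
    _ = w * v := by rw [mul_inv_rev, R.inv_eq hv, R.inv_eq hw]

theorem ti_eq {U U' : Subgroup G} (hU : ∃ x, U = cj x V) (hU' : ∃ x, U' = cj x V) {w : G} (hw : w ∈ U)
    (hw' : w ∈ U') (hw1 : w ≠ 1) : U = U' := by
  obtain ⟨x, rfl⟩ := hU
  obtain ⟨x', rfl⟩ := hU'
  have h1 : x'⁻¹ * w * x' ∈ cj (x'⁻¹ * x) V ⊓ V := by
    refine ⟨?_, mem_cj.mp hw'⟩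
    rw [← cj_cj]
    simpa using conj_mem_cj (x := x'⁻¹) hw
  have hne : x'⁻¹ * w * x' ≠ 1 := fun e => hw1 (by
    calc w = x' * (x'⁻¹ * w * x') * x'⁻¹ := by group
      _ = 1 := by rw [e]; group)
  rcases R.ti (x'⁻¹ * x) with h | h
  · have := congrArg (cj x') h
    rwa [cj_cj, mul_inv_cancel_left] at this
  · rw [h, Subgroup.mem_bot] at h1
    exact absurd h1 hne

theorem fix_of_commute {U : Subgroup G} (hU : ∃ x, U = cj x V) {w c : G} (hw : w ∈ U) (hw1 : w ≠ 1)
    (hc : c * w = w * c) : cj c U = U := by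
  obtain ⟨x, rfl⟩ := hU
  refine R.ti_eq ⟨c * x, cj_cj _ _ _⟩ ⟨x, rfl⟩ ?_ hw hw1
  rw [mem_cj (U := cj x V)]
  rw [show c⁻¹ * w * c = w by rw [mul_assoc, ← hc, inv_mul_cancel_left]]
  exact hw

variable [Finite G]

theorem commute_partner {U : Subgroup G} (hU : Partner V Q U) {v u : G} (hv : v ∈ V) (hu : u ∈ U) :
    v * u = u * v := by
  obtain ⟨hconj, hne, hUQ⟩ := hU
  have hinf : ∀ z ∈ V, z ∈ U → z = 1 := fun z hzV hzU => by
    by_contra h
    exact hne (R.ti_eq hconj ⟨1, (cj_one V).symm⟩ hzU hzV h)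
  have huN : ∀ u ∈ U, cj u V = V := fun u hu => cj_eq_self_iff.mpr (R.qle (hUQ hu))
  have hfix : ∀ v ∈ V, cj v U = U → ∀ u ∈ U, v * u = u * v := by
    intro v hv hfix u hu
    have hz : v * u * v⁻¹ * u⁻¹ = 1 := by
      apply hinf
      · rw [show v * u * v⁻¹ * u⁻¹ = v * (u * v⁻¹ * u⁻¹) by group]
        refine V.mul_mem hv ?_
        rw [← huN u hu]
        exact conj_mem_cj (V.inv_mem hv)
      · refine U.mul_mem ?_ (U.inv_mem hu)
        rw [← hfix]
        exact conj_mem_cj hu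
    rw [mul_inv_eq_one, mul_inv_eq_iff_eq_mul] at hz
    exact hz
  apply hfix v hv _ u hu
  by_contra hv0
  -- commutators with `v` land in the part of `V` normalising `U`
  let V0 := {z : V // cj (z : G) U = U}
  have hsq : ∀ u ∈ U, u * u = 1 := fun u hu => R.sq_conj hconj hu
  have hcV : ∀ u ∈ U, v * u * v * u ∈ V := by
    intro u hu
    rw [show v * u * v * u = v * (u * v * u) by group]
    refine V.mul_mem hv ?_
    rw [show u * v * u = u * v * u⁻¹ by rw [inv_eq_of_mul_eq_one_right (hsq u hu)]]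
    exact (huN u hu).le (conj_mem_cj hv)
  have hcfix : ∀ u ∈ U, cj (v * u * v * u) U = U := by
    intro u hu
    by_cases hu1 : u = 1
    · subst hu1
      rw [mul_one, mul_one, R.sq v hv, cj_one]
    apply R.fix_of_commute hconj hu hu1
    have h2 := R.inv_eq (hcV u hu)
    rw [mul_inv_rev, mul_inv_rev, mul_inv_rev, R.inv_eq hv, inv_eq_of_mul_eq_one_right (hsq u hu)] at h2
    calc v * u * v * u * u = v * u * v := by rw [mul_assoc _ u u, hsq u hu, mul_one]
      _ = u * (u * (v * (u * v))) := by rw [← mul_assoc u u, hsq u hu, one_mul, mul_assoc]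
      _ = u * (v * u * v * u) := by rw [h2]
  have hinj : Function.Injective (fun w : U => (⟨⟨_, hcV w.1 w.2⟩, hcfix w.1 w.2⟩ : V0)) := by
    intro w1 w2 h
    have h' : v * w1.1 * v * w1.1 = v * w2.1 * v * w2.1 := congrArg (fun z : V0 => (z.1 : G)) h
    have hcomm : v * (w1.1 * w2.1) = (w1.1 * w2.1) * v := by
      have i2 : w2.1 * w2.1 = 1 := hsq _ w2.2
      have i1 : w1.1 * w1.1 = 1 := hsq _ w1.2
      have h3 : w1.1 * v * w1.1 = w2.1 * v * w2.1 := by
        simpa [mul_assoc] using h'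
      calc v * (w1.1 * w2.1) = w1.1 * (w1.1 * v * w1.1) * w2.1 := by simp [← mul_assoc, i1]
        _ = w1.1 * (w2.1 * v * w2.1) * w2.1 := by rw [h3]
        _ = w1.1 * w2.1 * v := by simp [mul_assoc, i2]
    by_contra hne12
    apply hv0
    apply R.fix_of_commute hconj (U.mul_mem w1.2 w2.2) _ hcomm
    intro e
    apply hne12
    apply Subtype.ext
    rw [eq_inv_of_mul_eq_one_left e, inv_eq_of_mul_eq_one_right (hsq _ w2.2)]
  have hle : Nat.card U ≤ Nat.card V0 := Nat.card_le_card_of_injective _ hinj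
  have hlt : Nat.card V0 < Nat.card V :=
    Finite.card_subtype_lt (p := fun z : V => cj (z : G) U = U) (x := ⟨v, hv⟩) hv0
  obtain ⟨x, rfl⟩ := hconj
  rw [card_cj] at hle
  omega

/-- The centre of `Ph V Q` is `V`. -/
theorem mem_of_central {y : G} (hy : y ∈ Ph V Q) (hc : ∀ z ∈ Ph V Q, y * z = z * y) : y ∈ V := by
  have hA : Ph V Q ⊓ Subgroup.centralizer (Ph V Q : Set G) = V := by
    refine R.maxab _ (fun v hv => ⟨?_, ?_⟩) (fun a ha => R.qle ha.1.1) ?_ ?_
    · exact mem_Ph.mpr ⟨R.vle hv, fun w hw => R.comm hw hv⟩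
    · exact Subgroup.mem_centralizer_iff.mpr fun z hz => ((mem_Ph.mp hz).2 v hv).symm
    · exact fun a ha b hb => (Subgroup.mem_centralizer_iff.mp ha.2 b hb.1).symm
    · intro m hm a ha
      have hmem : ∀ m ∈ Subgroup.normalizer (V : Set G), ∀ z ∈ Ph V Q, m * z * m⁻¹ ∈ Ph V Q := by
        intro m hm z hz
        refine mem_Ph.mpr ⟨R.qnorm m hm z hz.1, fun v hv => ?_⟩
        have hv' : m⁻¹ * v * m ∈ V := by
          rw [← mem_cj, cj_eq_self_iff.mpr hm]; exact hv
        have := (mem_Ph.mp hz).2 _ hv'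
        calc v * (m * z * m⁻¹) = m * ((m⁻¹ * v * m) * z) * m⁻¹ := by group
          _ = m * (z * (m⁻¹ * v * m)) * m⁻¹ := by rw [this]
          _ = _ := by group
      refine ⟨hmem m hm a ha.1, Subgroup.mem_centralizer_iff.mpr fun z hz => ?_⟩
      have hz' := hmem m⁻¹ (Subgroup.inv_mem _ hm) z hz
      rw [inv_inv] at hz'
      have := Subgroup.mem_centralizer_iff.mp ha.2 _ hz'
      calc z * (m * a * m⁻¹) = m * ((m⁻¹ * z * m) * a) * m⁻¹ := by group
        _ = m * (a * (m⁻¹ * z * m)) * m⁻¹ := by rw [this]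
        _ = _ := by group
  have : y ∈ Ph V Q ⊓ Subgroup.centralizer (Ph V Q : Set G) :=
    ⟨hy, Subgroup.mem_centralizer_iff.mpr fun z hz => (hc z hz).symm⟩
  rwa [hA] at this

omit [Finite G] in
theorem V_le_Ph : V ≤ Ph V Q := fun _ hv => mem_Ph.mpr ⟨R.vle hv, fun _ hw => R.comm hw hv⟩

omit [Finite G] in
theorem conj_mem_Ph {m : G} (hm : m ∈ Subgroup.normalizer (V : Set G)) {z : G} (hz : z ∈ Ph V Q) :
    m * z * m⁻¹ ∈ Ph V Q := by
  refine mem_Ph.mpr ⟨R.qnorm m hm z hz.1, fun v hv => ?_⟩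
  have hv' : m⁻¹ * v * m ∈ V := by
    rw [← mem_cj, cj_eq_self_iff.mpr hm]; exact hv
  have := (mem_Ph.mp hz).2 _ hv'
  calc v * (m * z * m⁻¹) = m * ((m⁻¹ * v * m) * z) * m⁻¹ := by group
    _ = m * (z * (m⁻¹ * v * m)) * m⁻¹ := by rw [this]
    _ = _ := by group

omit [Finite G] in
theorem conj_mem_V {m : G} (hm : m ∈ Subgroup.normalizer (V : Set G)) {v : G} (hv : v ∈ V) :
    m * v * m⁻¹ ∈ V := by
  exact (cj_eq_self_iff.mpr hm).le (conj_mem_cj hv)

/-- Commutators in `Ph V Q` lie in `V`. -/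
theorem comm_mem {y z : G} (hy : y ∈ Ph V Q) (hz : z ∈ Ph V Q) : y * z * y⁻¹ * z⁻¹ ∈ V := by
  by_contra hnot
  let V' : Subgroup (Ph V Q) := V.subgroupOf (Ph V Q)
  have hV'n : V'.Normal := ⟨fun a ha b => by
    rw [Subgroup.mem_subgroupOf] at ha ⊢
    exact R.conj_mem_V (R.qle b.2.1) ha⟩
  haveI := hV'n
  haveI : Group.IsNilpotent ((Ph V Q) ⧸ V') := (IsPGroup.to_quotient (R.q2.to_le inf_le_left : IsPGroup 2 (Ph V Q)) V').isNilpotent
  have hne : (commutator (Ph V Q)).map (QuotientGroup.mk' V') ≠ ⊥ := by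
    rw [Ne, Subgroup.map_eq_bot_iff, QuotientGroup.ker_mk']
    intro hle
    apply hnot
    have := hle (Subgroup.commutator_mem_commutator (Subgroup.mem_top (⟨y, hy⟩ : (Ph V Q))) (Subgroup.mem_top ⟨z, hz⟩))
    simpa [V', Subgroup.mem_subgroupOf, commutatorElement_def] using this
  haveI : ((commutator (Ph V Q)).map (QuotientGroup.mk' V')).Normal :=
    Subgroup.Normal.map inferInstance _ (QuotientGroup.mk'_surjective V')
  obtain ⟨q0, hq0⟩ := (Subgroup.ne_bot_iff_exists_ne_one).mp (Cfsg.Agent.Lib.Solvable.inf_center_ne_bot hne)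
  obtain ⟨q, hq⟩ := q0
  have hq1 : q ≠ 1 := fun e => hq0 (Subtype.ext e)
  obtain ⟨a, ha, rfl⟩ := hq.1
  -- the set of elements of the derived group central modulo `V`, together with `V`
  let T : Set G := {g | g ∈ V ∨ ∃ a : (Ph V Q), (a : G) = g ∧ a ∈ commutator (Ph V Q) ∧ ∀ b : (Ph V Q), ⁅a, b⁆ ∈ V'}
  have hcomm2 : ∀ a : (Ph V Q), (∀ b : (Ph V Q), ⁅a, b⁆ ∈ V') → ∀ d ∈ commutator (Ph V Q), a * d = d * a := by
    intro a hab d hd
    have hcV : ∀ v ∈ V', ∀ b : (Ph V Q), v * b = b * v := fun v hv b =>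
      Subtype.ext ((mem_Ph.mp b.2).2 _ (Subgroup.mem_subgroupOf.mp hv))
    let f : (Ph V Q) →* (Ph V Q) :=
      { toFun := fun b => ⁅a, b⁆
        map_one' := commutatorElement_one_right a
        map_mul' := fun b b' => by
          calc ⁅a, b * b'⁆ = ⁅a, b⁆ * (b * ⁅a, b'⁆ * b⁻¹) := by
                rw [commutatorElement_def, commutatorElement_def, commutatorElement_def]; group
            _ = ⁅a, b⁆ * ⁅a, b'⁆ := by rw [← hcV _ (hab b') b, mul_inv_cancel_right] }
    have hker : commutator (Ph V Q) ≤ f.ker := by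
      rw [commutator_def, Subgroup.commutator_le]
      intro p _ p' _
      rw [MonoidHom.mem_ker, commutatorElement_def, map_mul, map_mul, map_mul, map_inv, map_inv]
      show ⁅a, p⁆ * ⁅a, p'⁆ * ⁅a, p⁆⁻¹ * ⁅a, p'⁆⁻¹ = 1
      rw [← commutatorElement_def, commutatorElement_eq_one_iff_mul_comm]
      exact hcV _ (hab p) _
    have : ⁅a, d⁆ = 1 := hker hd
    exact commutatorElement_eq_one_iff_mul_comm.mp this
  have hTP : ∀ g ∈ T, g ∈ (Ph V Q) := by
    rintro g (hg | ⟨a, rfl, -⟩)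
    · exact R.V_le_Ph hg
    · exact a.2
  have hTcomm : ∀ g ∈ T, ∀ g' ∈ T, g * g' = g' * g := by
    rintro g hg g' hg'
    rcases hg with hg | ⟨a, rfl, ha, hab⟩
    · exact (mem_Ph.mp (hTP g' hg')).2 g hg
    · rcases hg' with hg' | ⟨b, rfl, hb, hbb⟩
      · exact ((mem_Ph.mp a.2).2 g' hg').symm
      · exact congrArg Subtype.val (hcomm2 a hab b hb)
  have hTinv : ∀ m ∈ Subgroup.normalizer (V : Set G), ∀ g ∈ T, m * g * m⁻¹ ∈ T := by
    intro m hm g hg
    rcases hg with hg | ⟨a, rfl, ha, hab⟩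
    · exact Or.inl (R.conj_mem_V hm hg)
    · right
      let φ : (Ph V Q) →* (Ph V Q) :=
        { toFun := fun b => ⟨m * b.1 * m⁻¹, R.conj_mem_Ph hm b.2⟩
          map_one' := Subtype.ext (by simp)
          map_mul' := fun b b' => Subtype.ext (by simp [mul_assoc]) }
      have hφ : Function.Surjective φ := fun b =>
        ⟨⟨m⁻¹ * b.1 * m, by simpa using R.conj_mem_Ph (Subgroup.inv_mem _ hm) b.2⟩,
          Subtype.ext (by simp [φ, mul_assoc])⟩
      refine ⟨φ a, rfl, ?_, fun b => ?_⟩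
      · have hle : (commutator (Ph V Q)).map φ ≤ commutator (Ph V Q) := by
          rw [commutator_def, Subgroup.map_commutator]
          exact Subgroup.commutator_mono le_top le_top
        exact hle ⟨a, ha, rfl⟩
      · obtain ⟨b, rfl⟩ := hφ b
        rw [← map_commutatorElement]
        exact R.conj_mem_V hm (hab b)
  have hclP : Subgroup.closure T ≤ (Ph V Q) := (Subgroup.closure_le _).mpr hTP
  have hA : Subgroup.closure T = V := by
    refine R.maxab _ (fun v hv => Subgroup.subset_closure (Or.inl hv)) (fun a ha => R.qle (hclP ha).1) ?_ ?_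
    · intro a ha b hb
      haveI := Subgroup.isMulCommutative_closure (k := T) hTcomm
      exact congrArg Subtype.val (mul_comm' (⟨a, ha⟩ : Subgroup.closure T) ⟨b, hb⟩)
    · intro m hm a ha
      induction ha using Subgroup.closure_induction with
      | mem x hx => exact Subgroup.subset_closure (hTinv m hm x hx)
      | one => simp
      | mul x y _ _ hx hy => simpa [mul_assoc] using mul_mem hx hy
      | inv x _ hx => simpa [mul_assoc] using inv_mem hx
  apply hq1
  rw [QuotientGroup.mk'_apply, QuotientGroup.eq_one_iff]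
  show (a : G) ∈ V
  refine hA.le (Subgroup.subset_closure ?_)
  refine Or.inr ⟨a, rfl, ha, fun b => ?_⟩
  rw [← QuotientGroup.eq_one_iff, ← QuotientGroup.mk'_apply, map_commutatorElement,
    commutatorElement_eq_one_iff_mul_comm]
  exact (Subgroup.mem_center_iff.mp hq.2 _).symm

/-- Squares in `Ph V Q` lie in `V`. -/
theorem sq_mem {y : G} (hy : y ∈ Ph V Q) : y * y ∈ V := by
  refine R.mem_of_central (mul_mem hy hy) fun z hz => ?_
  set c := y * z * y⁻¹ * z⁻¹ with hc
  have hcV : c ∈ V := R.comm_mem hy hz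
  have hyz : y * z = c * (z * y) := by rw [hc]; group
  calc y * y * z = y * (c * (z * y)) := by rw [mul_assoc, hyz]
    _ = c * (y * z) * y := by
      rw [← mul_assoc, ← (mem_Ph.mp hy).2 c hcV]; group
    _ = c * c * (z * y * y) := by rw [hyz]; group
    _ = z * (y * y) := by rw [R.sq c hcV, one_mul, mul_assoc]

end Root

end Cfsg.Agent.Lib.TIRoot
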