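import Cfsg.Agent.Lib.TIRoot.Line

/-!
The action of the two radicals on the line is the natural action of `SL₂`.
-/

set_option autoImplicit false

namespace Cfsg.Agent.Lib.TIRoot

open scoped IsMulCommutative
open Matrix Cfsg.Agent.Lib.RootSub Cfsg.Agent.Lib.QuadPair

variable {G : Type*} [Group G] [Finite G] {V Q U Q' : Subgroup G}

/-- Conjugation by `g` is the matrix `m` in the coordinates `E`. -/
def Represents {W : Subgroup G} {F : Type} [Field F] (E : (Fin 2 → F) ≃ W) (g : G)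
    (m : Matrix.SpecialLinearGroup (Fin 2) F) : Prop :=
  ∀ z, g * (E z : G) * g⁻¹ = (E ((m : Matrix (Fin 2) (Fin 2) F).mulVec z) : G)

theorem exists_small_field (K : Type*) [Field K] [Fintype K] :
    ∃ (F : Type) (_ : Field F) (_ : Fintype F), Nonempty (F ≃+* K) := by
  classical
  let σ : K ≃ {k : Fin (Fintype.card K) // (k : ℕ) < Fintype.card K} :=
    (Fintype.equivFin K).trans (Equiv.subtypeUnivEquiv fun k => k.isLt).symm
  letI := σ.symm.field
  exact ⟨_, σ.symm.field, inferInstance, ⟨σ.symm.ringEquiv⟩⟩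

theorem quotient_equiv {W A B : Subgroup G} {F : Type} [Field F] (E : (Fin 2 → F) ≃ W)
    (hadd : ∀ z z', E (z + z') = E z * E z') (hN : A ⊔ B ≤ Subgroup.normalizer (W : Set G))
    (h1 : ∀ y ∈ A, ∃ k, Represents E y (yL k)) (h2 : ∀ p ∈ B, ∃ k, Represents E p (xU k))
    (h3 : ∀ k, ∃ y ∈ A, Represents E y (yL k)) (h4 : ∀ k, ∃ p ∈ B, Represents E p (xU k))
    [((Subgroup.centralizer (W : Set G)).subgroupOf (A ⊔ B)).Normal] :
    Nonempty (↥(A ⊔ B) ⧸ (Subgroup.centralizer (W : Set G)).subgroupOf (A ⊔ B) ≃*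
      Matrix.SpecialLinearGroup (Fin 2) F) := by
  let am : Matrix.SpecialLinearGroup (Fin 2) F → MulAut W := fun m =>
    MulEquiv.mk' ((E.symm.trans (Matrix.SpecialLinearGroup.toLin' m).toEquiv).trans E) (fun a b => by
      obtain ⟨a, rfl⟩ := E.surjective a
      obtain ⟨b, rfl⟩ := E.surjective b
      rw [← hadd]
      show E (Matrix.SpecialLinearGroup.toLin' m (E.symm (E (a + b)))) =
        E (Matrix.SpecialLinearGroup.toLin' m (E.symm (E a))) *
          E (Matrix.SpecialLinearGroup.toLin' m (E.symm (E b)))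
      rw [E.symm_apply_apply, E.symm_apply_apply, E.symm_apply_apply, map_add, hadd])
  have hact : ∀ m z, am m (E z) = E ((m : Matrix (Fin 2) (Fin 2) F).mulVec z) := by
    intro m z
    show E (Matrix.SpecialLinearGroup.toLin' m (E.symm (E z))) = _
    rw [E.symm_apply_apply]
    rfl
  let act : Matrix.SpecialLinearGroup (Fin 2) F →* MulAut W :=
    { toFun := am
      map_one' := by
        apply MulEquiv.ext
        intro x
        obtain ⟨z, rfl⟩ := E.surjective x
        rw [hact, Matrix.SpecialLinearGroup.coe_one, Matrix.one_mulVec]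
        rfl
      map_mul' := fun m n => by
        apply MulEquiv.ext
        intro x
        obtain ⟨z, rfl⟩ := E.surjective x
        rw [MulAut.mul_apply, hact, hact, hact, Matrix.SpecialLinearGroup.coe_mul, Matrix.mulVec_mulVec] }
  have hact2 : ∀ m z, act m (E z) = E ((m : Matrix (Fin 2) (Fin 2) F).mulVec z) := hact
  have hactinj : Function.Injective act := by
    intro m n h
    apply Subtype.ext
    funext i j
    have e := DFunLike.congr_fun h (E (Pi.single j 1))
    rw [hact2, hact2] at e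
    have e2 := congrFun (E.injective e) i
    simpa [Matrix.mulVec, dotProduct, Pi.single_apply] using e2
  let f : ↥(A ⊔ B) →* MulAut W := W.normalizerMonoidHom.comp (Subgroup.inclusion hN)
  have hf : ∀ (h : ↥(A ⊔ B)) (x : W), ((f h x : W) : G) = h.1 * x.1 * h.1⁻¹ := fun h x => rfl
  have hker : f.ker = (Subgroup.centralizer (W : Set G)).subgroupOf (A ⊔ B) := by
    rw [← MonoidHom.comap_ker, Subgroup.normalizerMonoidHom_ker]
    rfl
  have hrep : ∀ (g : G) (hg : g ∈ A ⊔ B) (m : Matrix.SpecialLinearGroup (Fin 2) F),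
      Represents E g m → f ⟨g, hg⟩ = act m := by
    intro g hg m hm
    apply MulEquiv.ext
    intro x
    obtain ⟨z, rfl⟩ := E.surjective x
    rw [hact2]
    exact Subtype.ext (hm z)
  have hrange : f.range = act.range := by
    apply le_antisymm
    · rintro _ ⟨⟨h, hh⟩, rfl⟩
      have hle : A ⊔ B ≤ ((act.range).comap f).map (A ⊔ B).subtype := by
        refine sup_le (fun y hy => ?_) (fun p hp => ?_)
        · obtain ⟨k, hk⟩ := h1 y hy
          exact ⟨⟨y, Subgroup.mem_sup_left hy⟩, ⟨_, (hrep y _ _ hk).symm⟩, rfl⟩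
        · obtain ⟨k, hk⟩ := h2 p hp
          exact ⟨⟨p, Subgroup.mem_sup_right hp⟩, ⟨_, (hrep p _ _ hk).symm⟩, rfl⟩
      obtain ⟨⟨h', _⟩, hh', hval⟩ := hle hh
      cases hval
      exact hh'
    · rw [MonoidHom.range_eq_map, ← upper_sup_lower, Subgroup.map_sup]
      refine sup_le ?_ ?_
      · rintro _ ⟨g, hg, rfl⟩
        obtain ⟨k, rfl⟩ := mem_upper.mp hg
        obtain ⟨p, hp, hpk⟩ := h4 k
        exact ⟨⟨p, Subgroup.mem_sup_right hp⟩, hrep p _ _ hpk⟩
      · rintro _ ⟨g, hg, rfl⟩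
        obtain ⟨k, rfl⟩ := mem_lower.mp hg
        obtain ⟨y, hy, hyk⟩ := h3 k
        exact ⟨⟨y, Subgroup.mem_sup_left hy⟩, hrep y _ _ hyk⟩
  exact ⟨((QuotientGroup.quotientMulEquivOfEq hker.symm).trans (QuotientGroup.quotientKerEquivRange f)).trans
    ((MulEquiv.subgroupCongr hrange).trans (MonoidHom.ofInjective hactinj).symm)⟩

namespace Pair

theorem le_normalizer_line [IsMulCommutative ↥V] [IsMulCommutative ↥U] (P : Pair V Q U Q') :
    Q ≤ Subgroup.normalizer ((U ⊔ V : Subgroup G) : Set G) := by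
  intro y hy
  rw [← cj_eq_self_iff]
  apply Subgroup.eq_of_le_of_card_ge
  · rw [cj_sup]
    refine sup_le (P.R.cj_le_line P.hU (P.hP.ge hy)) ?_
    rw [cj_eq_self_iff.mpr (P.R.qle hy)]
    exact le_sup_right
  · exact (card_cj y _).ge

theorem exists_coord [IsMulCommutative ↥V] [IsMulCommutative ↥U] (P : Pair V Q U Q') :
    ∃ (F : Type) (_ : Field F) (_ : Fintype F) (E : (Fin 2 → F) ≃ ↥(U ⊔ V)),
      Fintype.card F = Nat.card ↥V ∧ (∀ z z', E (z + z') = E z * E z') ∧
      (∀ y ∈ Q, ∃ k, Represents E y (yL k)) ∧ (∀ p ∈ Q', ∃ k, Represents E p (xU k)) ∧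
      (∀ k, ∃ y ∈ Q, Represents E y (yL k)) ∧ (∀ k, ∃ p ∈ Q', Represents E p (xU k)) := by
  classical
  obtain ⟨w, hw, hw1⟩ := P.R.mem_conjV P.hU
  set u1 : Additive U := Additive.ofMul ⟨w, hw⟩ with hu1
  have hu1' : (⟨w, hw⟩ : U) ≠ 1 := fun e => hw1 (congrArg Subtype.val e)
  have hu0 : u1 ≠ 0 := fun e => hu1' (congrArg Additive.toMul e)
  obtain ⟨v0, hv0, hv01⟩ : ∃ v : G, v ∈ V ∧ v ≠ 1 := by
    obtain ⟨x, hx⟩ := P.hU.1
    refine ⟨x⁻¹ * w * x, mem_cj.mp (hx ▸ hw), fun e => hw1 ?_⟩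
    calc w = x * (x⁻¹ * w * x) * x⁻¹ := by group
      _ = 1 := by rw [e]; group
  obtain ⟨y0, hy0⟩ := P.exists_th hu1' ⟨v0, hv0⟩
  have hy00 : P.th y0 ≠ 0 := by
    intro e
    rw [e, AddMonoidHom.zero_apply] at hy0
    exact hv01 (congrArg (fun z : Additive V => ((Additive.toMul z : V) : G)) hy0).symm
  obtain ⟨p0, hp0⟩ := P.exists_inverse hy00
  let e : Additive U ≃+ Additive V := AddEquiv.ofBijective (P.th y0) (P.th_bijective hy00)
  have he : ∀ a, e a = P.th y0 a := fun _ => rfl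
  let sOf : Q → AddMonoid.End (Additive U) := fun y => e.symm.toAddMonoidHom.comp (P.th y)
  have hsOf : ∀ y a, e (sOf y a) = P.th y a := fun y a => e.apply_symm_apply _
  have hsAdd : ∀ y y', sOf (y * y') = sOf y + sOf y' := by
    intro y y'
    apply AddMonoidHom.ext
    intro a
    show e.symm (P.th (y * y') a) = e.symm (P.th y a) + e.symm (P.th y' a)
    rw [P.th_mul, AddMonoidHom.add_apply, map_add]
  let sHom : Additive Q →+ AddMonoid.End (Additive U) :=
    AddMonoidHom.mk' (fun y => sOf (Additive.toMul y)) (fun a b => hsAdd _ _)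
  set S := sHom.range with hS
  have hsmem : ∀ y, sOf y ∈ S := fun y => ⟨Additive.ofMul y, rfl⟩
  have hSy : ∀ s ∈ S, ∃ y : Q, sOf y = s := by
    rintro _ ⟨y, rfl⟩; exact ⟨Additive.toMul y, rfl⟩
  have htmem : ∀ p : Q', ((P.symm'.th p).comp (P.th y0) : AddMonoid.End (Additive U)) ∈ S := by
    intro p
    obtain ⟨q, hq⟩ := P.exists_transport hy00 hp0 p
    have : sOf q = (P.symm'.th p).comp (P.th y0) := by
      apply AddMonoidHom.ext
      intro a
      apply e.injective
      exact (hsOf q a).trans (hq a)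
    rw [← this]
    exact hsmem q
  have hspread : Spread S := by
    refine ⟨fun a => ?_, ⟨Additive.ofMul y0, ?_⟩, fun s hs hs0 => ?_⟩
    · obtain ⟨a, rfl⟩ := Additive.ofMul.surjective a
      apply Additive.toMul.injective
      apply Subtype.ext
      exact P.R.sq_conj P.hU.1 a.2
    · apply AddMonoidHom.ext
      intro a
      exact e.symm_apply_apply a
    · obtain ⟨y, rfl⟩ := hSy s hs
      have hy : P.th y ≠ 0 := fun h => hs0 (AddMonoidHom.ext fun a => by
        show e.symm (P.th y a) = 0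
        rw [h, AddMonoidHom.zero_apply, map_zero])
      obtain ⟨p, hp⟩ := P.exists_inverse hy
      refine ⟨_, htmem p, ?_⟩
      have h1 : ∀ a, P.symm'.th p (P.th y0 (sOf y a)) = a := fun a => by
        rw [← he, hsOf]; exact hp a
      have hbij : Function.Surjective (sOf y) := e.symm.surjective.comp (P.th_bijective hy).2
      refine ⟨AddMonoidHom.ext fun a => ?_, AddMonoidHom.ext h1⟩
      obtain ⟨b, rfl⟩ := hbij a
      show sOf y (P.symm'.th p (P.th y0 (sOf y b))) = sOf y b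
      rw [h1]
  -- the field
  let F0 : Subring (AddMonoid.End (Additive U)) :=
    { carrier := S
      mul_mem' := fun {p q} hp hq => hspread.mul_mem_of_commute hp hq (hspread.commute hp hq)
      one_mem' := hspread.one
      add_mem' := fun {p q} hp hq => S.add_mem hp hq
      zero_mem' := S.zero_mem
      neg_mem' := fun {p} hp => S.neg_mem hp }
  have hF0 : ∀ y, sOf y ∈ F0 := hsmem
  have hev : Function.Bijective (fun s : F0 => (s : AddMonoid.End (Additive U)) u1) := by
    constructor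
    · intro a b hab
      by_contra hne
      apply hu0
      refine hspread.apply_eq_zero (S.sub_mem (a.2 : (a : AddMonoid.End (Additive U)) ∈ S)
        (b.2 : (b : AddMonoid.End (Additive U)) ∈ S)) (sub_ne_zero.mpr fun h => hne (Subtype.ext h)) ?_
      show (a : AddMonoid.End (Additive U)) u1 - (b : AddMonoid.End (Additive U)) u1 = 0
      exact sub_eq_zero.mpr hab
    · intro c
      obtain ⟨y, hy⟩ := P.exists_th hu1' (Additive.toMul (e c))
      refine ⟨⟨sOf y, hF0 y⟩, e.injective ?_⟩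
      show e (sOf y u1) = e c
      rw [hsOf, hy]
      rfl
  haveI : Finite (AddMonoid.End (Additive U)) :=
    Finite.of_injective (fun f : AddMonoid.End (Additive U) => (f : Additive U → Additive U)) DFunLike.coe_injective
  letI : CommRing F0 :=
    { (inferInstance : Ring F0) with mul_comm := fun a b => Subtype.ext (hspread.commute a.2 b.2).eq }
  haveI : Nontrivial F0 := ⟨⟨1, 0, fun h => hu0 (congrArg (fun s : F0 => (s : AddMonoid.End (Additive U)) u1) h)⟩⟩
  haveI : NoZeroDivisors F0 := ⟨fun {a b} h => by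
    by_cases ha : a = 0
    · exact Or.inl ha
    right
    obtain ⟨c, -, -, hc⟩ := hspread.inv _ a.2 (fun e0 => ha (Subtype.ext e0))
    apply Subtype.ext
    have h' : a.1 * b.1 = 0 := congrArg Subtype.val h
    calc b.1 = c * (a.1 * b.1) := by rw [← mul_assoc, hc, one_mul]
      _ = 0 := by rw [h', mul_zero]⟩
  haveI : IsDomain F0 := NoZeroDivisors.to_isDomain F0
  letI : Fintype F0 := Fintype.ofFinite _
  letI : Field F0 := Fintype.fieldOfDomain F0
  obtain ⟨F, iF, fF, ⟨eF⟩⟩ := exists_small_field F0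
  letI := iF
  letI := fF
  -- coordinates on the line
  let cu : F0 → U := fun s => Additive.toMul ((s : AddMonoid.End (Additive U)) u1)
  let cv : F0 → V := fun s => Additive.toMul (e ((s : AddMonoid.End (Additive U)) u1))
  have hcu : ∀ a b, cu (a + b) = cu a * cu b := fun a b => rfl
  have hcv : ∀ a b, cv (a + b) = cv a * cv b := fun a b => congrArg Additive.toMul (map_add e _ _)
  let E0 : (Fin 2 → F) → ↥(U ⊔ V) := fun z =>
    ⟨(cu (eF (z 0)) : G) * (cv (eF (z 1)) : G),
      mul_mem (Subgroup.mem_sup_left (cu (eF (z 0))).2) (Subgroup.mem_sup_right (cv (eF (z 1))).2)⟩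
  have hE0add : ∀ z z', E0 (z + z') = E0 z * E0 z' := by
    intro z z'
    apply Subtype.ext
    show (cu (eF (z 0 + z' 0)) : G) * cv (eF (z 1 + z' 1)) = _
    rw [map_add, map_add, hcu, hcv, Subgroup.coe_mul, Subgroup.coe_mul]
    have := P.commUV (cu (eF (z' 0))).2 (cv (eF (z 1))).2
    calc (cu (eF (z 0)) : G) * cu (eF (z' 0)) * (cv (eF (z 1)) * cv (eF (z' 1)))
        = (cu (eF (z 0)) : G) * ((cu (eF (z' 0)) : G) * cv (eF (z 1))) * cv (eF (z' 1)) := by group
      _ = (cu (eF (z 0)) : G) * ((cv (eF (z 1)) : G) * cu (eF (z' 0))) * cv (eF (z' 1)) := by rw [this]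
      _ = _ := by show _ = (cu (eF (z 0)) : G) * cv (eF (z 1)) * ((cu (eF (z' 0)) : G) * cv (eF (z' 1))); group
  have hE0bij : Function.Bijective E0 := by
    constructor
    · intro z z' h
      obtain ⟨h0, h1⟩ := P.fac_unique (cu _).2 (cu _).2 (cv _).2 (cv _).2 (congrArg Subtype.val h)
      funext i
      fin_cases i
      · exact eF.injective (hev.1 (Additive.toMul.injective (Subtype.ext h0)))
      · exact eF.injective (hev.1 (e.injective (Additive.toMul.injective (Subtype.ext h1))))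
    · rintro ⟨x, hx⟩
      obtain ⟨u, hu, v, hv, rfl⟩ := (P.R.mem_line P.hU).mp hx
      obtain ⟨a, ha⟩ := hev.2 (Additive.ofMul ⟨u, hu⟩)
      obtain ⟨b, hb⟩ := hev.2 (e.symm (Additive.ofMul ⟨v, hv⟩))
      refine ⟨![eF.symm a, eF.symm b], Subtype.ext ?_⟩
      show (cu (eF (eF.symm a)) : G) * cv (eF (eF.symm b)) = u * v
      rw [eF.apply_symm_apply, eF.apply_symm_apply]
      show ((Additive.toMul ((a : AddMonoid.End (Additive U)) u1) : U) : G) *
        ((Additive.toMul (e ((b : AddMonoid.End (Additive U)) u1)) : V) : G) = u * v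
      rw [show (a : AddMonoid.End (Additive U)) u1 = Additive.ofMul ⟨u, hu⟩ from ha,
        show (b : AddMonoid.End (Additive U)) u1 = e.symm (Additive.ofMul ⟨v, hv⟩) from hb, e.apply_symm_apply]
      rfl
  let E : (Fin 2 → F) ≃ ↥(U ⊔ V) := Equiv.ofBijective E0 hE0bij
  have hlow : ∀ y : Q, Represents E y.1 (yL (eF.symm ⟨sOf y, hF0 y⟩)) := by
    intro y z
    show y.1 * ((cu (eF (z 0)) : G) * cv (eF (z 1))) * y.1⁻¹ = _
    set k := eF.symm ⟨sOf y, hF0 y⟩ with hk
    have hz0 : ((yL k : Matrix (Fin 2) (Fin 2) _).mulVec z) 0 = z 0 := by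
      simp [coe_yL, Matrix.mulVec, dotProduct, Fin.sum_univ_two]
    have hz1 : ((yL k : Matrix (Fin 2) (Fin 2) _).mulVec z) 1 = k * z 0 + z 1 := by
      simp [coe_yL, Matrix.mulVec, dotProduct, Fin.sum_univ_two]
    show _ = (cu (eF _) : G) * cv (eF _)
    rw [hz0, hz1, map_add, map_mul, hk, eF.apply_symm_apply, hcv, Subgroup.coe_mul]
    have hc : (cv (⟨sOf y, hF0 y⟩ * eF (z 0)) : G) =
        y.1 * (cu (eF (z 0)) : G) * y.1⁻¹ * (cu (eF (z 0)) : G)⁻¹ := by
      show ((Additive.toMul (e (sOf y ((eF (z 0) : AddMonoid.End (Additive U)) u1))) : V) : G) = _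
      rw [hsOf]
      rfl
    have hcc := P.commQV y.2 (cv (eF (z 1))).2
    have hcm := P.commUV (cu (eF (z 0))).2 (cv (⟨sOf y, hF0 y⟩ * eF (z 0))).2
    calc y.1 * ((cu (eF (z 0)) : G) * cv (eF (z 1))) * y.1⁻¹
        = (y.1 * (cu (eF (z 0)) : G) * y.1⁻¹ * (cu (eF (z 0)) : G)⁻¹) * (cu (eF (z 0)) : G) *
            (y.1 * (cv (eF (z 1)) : G) * y.1⁻¹) := by group
      _ = (cu (eF (z 0)) : G) * cv (⟨sOf y, hF0 y⟩ * eF (z 0)) * (cv (eF (z 1)) : G) := by
        rw [← hc, ← hcc, mul_inv_cancel_right, hcm]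
      _ = _ := mul_assoc _ _ _
  have hup : ∀ p : Q', Represents E p.1
      (xU (eF.symm ⟨_, (htmem p : ((P.symm'.th p).comp (P.th y0) : AddMonoid.End (Additive U)) ∈ F0)⟩)) := by
    intro p z
    show p.1 * ((cu (eF (z 0)) : G) * cv (eF (z 1))) * p.1⁻¹ = _
    set t : F0 := ⟨_, (htmem p : ((P.symm'.th p).comp (P.th y0) : AddMonoid.End (Additive U)) ∈ F0)⟩ with ht
    have hz0 : ((xU (eF.symm t) : Matrix (Fin 2) (Fin 2) _).mulVec z) 0 = z 0 + eF.symm t * z 1 := by
      simp [coe_xU, Matrix.mulVec, dotProduct, Fin.sum_univ_two]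
    have hz1 : ((xU (eF.symm t) : Matrix (Fin 2) (Fin 2) _).mulVec z) 1 = z 1 := by
      simp [coe_xU, Matrix.mulVec, dotProduct, Fin.sum_univ_two]
    show _ = (cu (eF _) : G) * cv (eF _)
    rw [hz0, hz1, map_add, map_mul, eF.apply_symm_apply, hcu, Subgroup.coe_mul]
    have hc : (cu (t * eF (z 1)) : G) = p.1 * (cv (eF (z 1)) : G) * p.1⁻¹ * (cv (eF (z 1)) : G)⁻¹ := rfl
    have hcc := P.commQ'U p.2 (cu (eF (z 0))).2
    calc p.1 * ((cu (eF (z 0)) : G) * cv (eF (z 1))) * p.1⁻¹
        = (p.1 * (cu (eF (z 0)) : G) * p.1⁻¹) * (p.1 * (cv (eF (z 1)) : G) * p.1⁻¹ * (cv (eF (z 1)) : G)⁻¹) *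
            (cv (eF (z 1)) : G) := by group
      _ = _ := by rw [← hc, ← hcc, mul_inv_cancel_right]
  refine ⟨F, iF, fF, E, ?_, hE0add, fun y hy => ⟨_, hlow ⟨y, hy⟩⟩, fun p hp => ⟨_, hup ⟨p, hp⟩⟩, ?_, ?_⟩
  · rw [Fintype.card_congr eF.toEquiv, Fintype.card_eq_nat_card, Nat.card_congr (Equiv.ofBijective _ hev)]
    exact P.R.map_V_eq P.hU
  · intro k
    obtain ⟨y, hy⟩ := hSy (eF k : AddMonoid.End (Additive U)) (eF k).2
    refine ⟨y.1, y.2, ?_⟩
    rw [show k = eF.symm ⟨sOf y, hF0 y⟩ from (eF.symm_apply_eq.mpr (Subtype.ext hy)).symm]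
    exact hlow y
  · intro k
    by_cases hk : eF k = 0
    · have : k = 0 := eF.injective (by rw [hk, map_zero])
      refine ⟨1, one_mem _, ?_⟩
      rw [this, xU_zero]
      intro z
      rw [one_mul, inv_one, mul_one, Matrix.SpecialLinearGroup.coe_one, Matrix.one_mulVec]
    obtain ⟨y', hy'⟩ := hSy ((eF k)⁻¹ : F0).1 ((eF k)⁻¹ : F0).2
    have hy'0 : P.th y' ≠ 0 := fun h0 => by
      apply inv_ne_zero hk
      apply Subtype.ext
      rw [← hy']
      apply AddMonoidHom.ext
      intro a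
      show e.symm (P.th y' a) = 0
      rw [h0, AddMonoidHom.zero_apply, map_zero]
    obtain ⟨p, hp⟩ := P.exists_inverse hy'0
    refine ⟨p.1, p.2, ?_⟩
    set t : F0 := ⟨_, (htmem p : ((P.symm'.th p).comp (P.th y0) : AddMonoid.End (Additive U)) ∈ F0)⟩
    have h2 : t * (eF k)⁻¹ = 1 := by
      apply Subtype.ext
      apply AddMonoidHom.ext
      intro a
      show P.symm'.th p (P.th y0 ((((eF k)⁻¹ : F0) : AddMonoid.End (Additive U)) a)) = a
      rw [← hy', ← he, hsOf]
      exact hp a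
    have h3 : t = eF k := by
      calc t = t * (eF k)⁻¹ * eF k := by rw [inv_mul_cancel_right₀ hk]
        _ = eF k := by rw [h2, one_mul]
    rw [show k = eF.symm t from (eF.symm_apply_eq.mpr h3).symm]
    exact hup p

/-- The quotient by the kernel of the action on the line. -/
theorem recognition [IsMulCommutative ↥V] [IsMulCommutative ↥U] (P : Pair V Q U Q') (H W : Subgroup G)
    (hH : H = Q ⊔ Q') (hW : W = U ⊔ V) :
    ∀ _hN : ((Subgroup.centralizer (W : Set G)).subgroupOf H).Normal, ∃ (F : Type) (_ : Field F) (_ : Fintype F),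
      Fintype.card F = Nat.card ↥V ∧
        Nonempty (↥H ⧸ (Subgroup.centralizer (W : Set G)).subgroupOf H ≃* Matrix.SpecialLinearGroup (Fin 2) F) := by
  subst hH hW
  intro hN
  obtain ⟨F, iF, fF, E, hcard, hadd, h1, h2, h3, h4⟩ := P.exists_coord
  refine ⟨F, iF, fF, hcard, quotient_equiv E hadd (sup_le P.le_normalizer_line ?_) h1 h2 h3 h4⟩
  rw [sup_comm U V]
  exact P.symm'.le_normalizer_line

end Pair

end Cfsg.Agent.Lib.TIRoot
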